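import Mathlib
import Cfsg.Agent.Lib.Subnormal.ClassTwo

/-!
A local configuration in a `2`-group of class at most two acted on by a group of odd order: a normal
subgroup of index two of a Sylow `2`-subgroup with a `2'`-element acting non-trivially on it yields a
non-trivial invariant normal subgroup with the same property.
-/

set_option autoImplicit false

namespace CfsgLib.Subnormal

open Subgroup

/-- The parity argument: no two consecutive members of an orbit of odd length fail to commute. -/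
theorem commute_of_odd_orbit {G : Type*} [Group G] {S : Subgroup G} (b : MulAut G)
    (hb : Odd (orderOf b)) (hbS : ∀ s ∈ S, b s ∈ S) {v z : G} (hvS : v ∈ S) (hv2 : v * v = 1)
    (_hz : z ≠ 1) (hz2 : z * z = 1) (hzc : ∀ s ∈ S, z * s = s * z) (hbz : b z = z)
    (hrel : ∀ s ∈ S, s * v ≠ v * s → s * v = z * (v * s))
    (hN1 : ∀ p ∈ S, ∀ q ∈ S, p * v = v * p → q * v = v * q → p * q ≠ z * (q * p))
    (hN2 : ∀ p ∈ S, p * v = v * p → p * p ≠ z) : b v * v = v * b v := by
  by_contra hne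
  have hbpow : ∀ (i : ℕ), ∀ s ∈ S, (b ^ i) s ∈ S := by
    intro i
    induction i with
    | zero => simp
    | succ i ih => intro s hs; rw [pow_succ', MulAut.mul_apply]; exact hbS _ (ih s hs)
  have hbzi : ∀ i : ℕ, (b ^ i) z = z := by
    intro i
    induction i with
    | zero => simp
    | succ i ih => rw [pow_succ', MulAut.mul_apply, ih, hbz]
  set v1 := b v with hv1
  have hv1S : v1 ∈ S := hbS v hvS
  have hv12 : v1 * v1 = 1 := by rw [hv1, ← map_mul, hv2, map_one]
  -- the relation at the conjugates of `v`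
  have hrelv1 : ∀ s ∈ S, s * v1 ≠ v1 * s → s * v1 = z * (v1 * s) := by
    intro s hs h
    obtain ⟨o, ho⟩ := hb
    have hbo : b ^ (2 * o + 1) = 1 := by rw [← ho]; exact pow_orderOf_eq_one b
    set t := (b ^ (2 * o)) s
    have hbt : b t = s := by
      rw [← MulAut.mul_apply, ← pow_succ', hbo, MulAut.one_apply]
    have ht : t * v ≠ v * t := fun h' => h (by rw [← hbt, hv1, ← map_mul, h', map_mul])
    have := congrArg b (hrel t (hbpow _ s hs) ht)
    simpa [map_mul, hbt, hbz] using this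
  -- no triangle
  have tri : ∀ u ∈ S, u * u = 1 → u * v ≠ v * u → u * v1 ≠ v1 * u → False := by
    intro u hu hu2 h0 h1
    have e0 : u * v = z * (v * u) := hrel u hu h0
    have e1 : v1 * v = z * (v * v1) := hrel v1 hv1S hne
    have e2 : u * v1 = z * (v1 * u) := hrelv1 u hu h1
    refine hN2 (v1 * u) (S.mul_mem hv1S hu) ?_ ?_
    · calc v1 * u * v = v1 * (z * (v * u)) := by rw [mul_assoc, e0]
        _ = z * (v1 * v) * u := by simp only [← mul_assoc, hzc v1 hv1S]
        _ = z * z * (v * v1 * u) := by rw [e1]; simp only [mul_assoc]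
        _ = v * (v1 * u) := by rw [hz2, one_mul, mul_assoc]
    · calc v1 * u * (v1 * u) = v1 * (u * v1) * u := by simp only [mul_assoc]
        _ = v1 * z * v1 * (u * u) := by rw [e2]; simp only [mul_assoc]
        _ = z * (v1 * v1) * (u * u) := by rw [← hzc v1 hv1S]; simp only [mul_assoc]
        _ = z := by rw [hv12, hu2, mul_one, mul_one]
  have horb : ∀ i : ℕ, (b ^ i) v * (b ^ i) v = 1 := fun i => by rw [← map_mul, hv2, map_one]
  -- no vertex commuting with both `v` and `b v`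
  have both : ∀ i : ℕ, (b ^ i) v * v = v * (b ^ i) v → (b ^ i) v * v1 = v1 * (b ^ i) v → False := by
    intro i h0 h1
    set u := (b ^ i) v with hu
    set u' := (b ^ (i + 1)) v with hu'
    have hu'e : u' = (b ^ i) v1 := by rw [hu', hv1, pow_succ, MulAut.mul_apply]
    have hadj : u' * u = z * (u * u') := by
      have := congrArg (b ^ i) (hrel v1 hv1S hne)
      simpa [map_mul, hbzi, hu'e, hu] using this
    by_cases h0' : u' * v = v * u'
    · exact hN1 u' (hbpow _ v hvS) u (hbpow _ v hvS) h0' h0 hadj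
    by_cases h1' : u' * v1 = v1 * u'
    · obtain ⟨o, ho⟩ := hb
      have hbo : b ^ (2 * o + 1) = 1 := by rw [← ho]; exact pow_orderOf_eq_one b
      have hinv : ∀ y : G, (b ^ (2 * o)) (b y) = y := fun y => by
        rw [← MulAut.mul_apply, ← pow_succ, hbo, MulAut.one_apply]
      refine hN1 ((b ^ (2 * o)) u') (hbpow _ _ (hbpow _ v hvS)) ((b ^ (2 * o)) u)
        (hbpow _ _ (hbpow _ v hvS)) ?_ ?_ ?_
      · simpa [hv1, map_mul, hinv] using congrArg (b ^ (2 * o)) h1'
      · simpa [hv1, map_mul, hinv] using congrArg (b ^ (2 * o)) h1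
      · simpa [map_mul, hbzi] using congrArg (b ^ (2 * o)) hadj
    exact tri u' (hbpow _ v hvS) (horb (i + 1)) h0' h1'
  have hP : ∀ i : ℕ, ((b ^ i) v * v ≠ v * (b ^ i) v ↔ Odd i) := by
    intro i
    induction i with
    | zero => simp
    | succ i ih =>
      set u := (b ^ (i + 1)) v with hu
      have hiff : u * v1 = v1 * u ↔ (b ^ i) v * v = v * (b ^ i) v := by
        rw [hu, hv1, pow_succ', MulAut.mul_apply, ← map_mul, ← map_mul, b.apply_eq_iff_eq]
      rw [Nat.odd_add_one, ← ih, not_not, ← hiff]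
      constructor
      · intro h0
        by_contra h1
        exact tri u (hbpow _ v hvS) (horb _) h0 h1
      · intro h1 h0
        exact both (i + 1) h0 h1
  obtain ⟨o, ho⟩ := hb
  have := (hP (orderOf b)).mpr ⟨o, ho⟩
  simp [pow_orderOf_eq_one] at this

open scoped commutatorElement in
/-- The four-group argument.  Under the stated hypotheses some non-trivial `A`-invariant subgroup
`R₀` of `S`, normalized by `S`, is normalized and not centralized by `w`. -/
theorem exists_invariant_of_four {G : Type*} [Group G] [Finite G] {A : Type*} [Group A] [Finite A]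
    (φ : A →* MulAut G) (hA : Odd (Nat.card A)) {S R : Subgroup G} (hS : IsPGroup 2 S)
    (hSA : ∀ a : A, ∀ s ∈ S, φ a s ∈ S)
    (hcl : ∀ x ∈ S, ∀ y ∈ S, ∀ t ∈ S, ⁅x, y⁆ * t = t * ⁅x, y⁆)
    (hRS : R ≤ S) (hSR : S ≤ normalizer (R : Set G)) {w x : G}
    (hw : w ∈ normalizer (R : Set G)) (hwodd : Odd (orderOf w))
    (hwc : w ∉ centralizer (R : Set G)) (hx : x ∈ S) (_hxR : x ∉ R)
    (hcos : ∀ s ∈ S, s ∈ R ∨ x⁻¹ * s ∈ R)
    (hu : ∃ c ∈ R, ∀ r ∈ R, x * w * x⁻¹ * w * r * (x * w * x⁻¹ * w)⁻¹ = c * r * c⁻¹) :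
    ∃ R₀ : Subgroup G, R₀ ≠ ⊥ ∧ R₀ ≤ S ∧ S ≤ normalizer (R₀ : Set G) ∧
      (∀ a : A, ∀ r ∈ R₀, φ a r ∈ R₀) ∧ w ∈ normalizer (R₀ : Set G) ∧
      w ∉ centralizer (R₀ : Set G) := by
  classical
  obtain ⟨c, hc, hu⟩ := hu
  set u₀ := x * w * x⁻¹ * w with hu₀
  have hRn : ∀ g ∈ normalizer (R : Set G), ∀ r ∈ R, g * r * g⁻¹ ∈ R := fun g hg r hr =>
    (Subgroup.mem_normalizer_iff.mp hg r).mp hr
  have hxN := hSR hx
  have hu₀N : u₀ ∈ normalizer (R : Set G) :=
    mul_mem (mul_mem (mul_mem hxN hw) (inv_mem hxN)) hw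
  set Z := R ⊓ centralizer (R : Set G) with hZ
  have hZc : ∀ t ∈ Z, ∀ r ∈ R, r * t = t * r := fun t ht r hr =>
    Subgroup.mem_centralizer_iff.mp ht.2 r hr
  have hZn : ∀ g ∈ normalizer (R : Set G), ∀ t ∈ Z, g * t * g⁻¹ ∈ Z := by
    intro g hg t ht
    refine ⟨hRn g hg t ht.1, Subgroup.mem_centralizer_iff.mpr fun r hr => ?_⟩
    have h := hZc t ht _ (hRn g⁻¹ (inv_mem hg) r hr)
    rw [inv_inv] at h
    calc r * (g * t * g⁻¹) = g * (g⁻¹ * r * g * t) * g⁻¹ := by group
      _ = g * (t * (g⁻¹ * r * g)) * g⁻¹ := by rw [h]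
      _ = g * t * g⁻¹ * r := by group
  -- `w` acts trivially on `R / Z`
  have hsmall : ∀ g ∈ S, ∀ r ∈ R, g * r * g⁻¹ * r⁻¹ ∈ Z := by
    intro g hg r hr
    refine ⟨R.mul_mem (hRn g (hSR hg) r hr) (R.inv_mem hr),
      Subgroup.mem_centralizer_iff.mpr fun t ht => ?_⟩
    exact (hcl g hg r (hRS hr) t (hRS ht)).symm
  -- a subgroup containing `x` and `u₀` and invariant under `w` contains `w`
  obtain ⟨o, ho⟩ := hwodd
  have hw2 : ∀ (K : Subgroup G), x ∈ K → u₀ ∈ K →
      (∀ k ∈ K, w * k * w⁻¹ ∈ K) → w ∈ K := by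
    intro K hxK huK hn
    have h1 : w * x⁻¹ * w ∈ K := by
      have h := mul_mem (inv_mem hxK) huK
      rwa [hu₀, show x⁻¹ * (x * w * x⁻¹ * w) = w * x⁻¹ * w by group] at h
    have h2 : w ^ 2 ∈ K := by
      have h := mul_mem (inv_mem (hn _ (inv_mem hxK))) h1
      rwa [show (w * x⁻¹ * w⁻¹)⁻¹ * (w * x⁻¹ * w) = w ^ 2 by rw [pow_two]; group] at h
    have h3 := K.pow_mem h2 (o + 1)
    rwa [← pow_mul, show 2 * (o + 1) = orderOf w + 1 by omega, pow_succ, pow_orderOf_eq_one,
      one_mul] at h3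
  let K₁ : Subgroup G :=
    { carrier := {g | g ∈ normalizer (R : Set G) ∧ ∀ r ∈ R, g * r * g⁻¹ * r⁻¹ ∈ Z}
      one_mem' := ⟨one_mem _, fun r hr => by simp⟩
      mul_mem' := fun {g h} hg hh => ⟨mul_mem hg.1 hh.1, fun r hr => by
        have := mul_mem (hg.2 _ (hRn h hh.1 r hr)) (hh.2 r hr)
        rwa [show g * (h * r * h⁻¹) * g⁻¹ * (h * r * h⁻¹)⁻¹ * (h * r * h⁻¹ * r⁻¹) =
          g * h * r * (g * h)⁻¹ * r⁻¹ by group] at this⟩
      inv_mem' := fun {g} hg => ⟨inv_mem hg.1, fun r hr => by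
        have h' := hRn g⁻¹ (inv_mem hg.1) r hr
        rw [inv_inv] at h'
        have := inv_mem (hg.2 _ h')
        rwa [show (g * (g⁻¹ * r * g) * g⁻¹ * (g⁻¹ * r * g)⁻¹)⁻¹ = g⁻¹ * r * g⁻¹⁻¹ * r⁻¹ by
          group] at this⟩ }
  have hwK₁ : w ∈ K₁ := by
    refine hw2 K₁ ⟨hxN, hsmall x hx⟩ ⟨hu₀N, fun r hr => ?_⟩ fun k hk => ?_
    · rw [hu r hr]; exact hsmall c (hRS hc) r hr
    · refine ⟨mul_mem (mul_mem hw hk.1) (inv_mem hw), fun r hr => ?_⟩
      have h' := hRn w⁻¹ (inv_mem hw) r hr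
      rw [inv_inv] at h'
      have := hZn w hw _ (hk.2 _ h')
      rwa [show w * (k * (w⁻¹ * r * w) * k⁻¹ * (w⁻¹ * r * w)⁻¹) * w⁻¹ =
        w * k * w⁻¹ * r * (w * k * w⁻¹)⁻¹ * r⁻¹ by group] at this
  -- the homomorphism `r ↦ w r w⁻¹ r⁻¹`
  set f : G → G := fun r => w * r * w⁻¹ * r⁻¹ with hf
  have hfZ : ∀ r ∈ R, f r ∈ Z := fun r hr => hwK₁.2 r hr
  have hfmul : ∀ r ∈ R, ∀ s ∈ R, f (r * s) = f r * f s := by
    intro r hr s hs
    calc f (r * s) = w * r * w⁻¹ * (f s * r⁻¹) := by simp only [hf]; group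
      _ = w * r * w⁻¹ * (r⁻¹ * f s) := by rw [hZc _ (hfZ s hs) _ (inv_mem hr)]
      _ = f r * f s := by simp only [hf]; group
  have hfone : f 1 = 1 := by simp [hf]
  let V : Subgroup G :=
    { carrier := {t | ∃ r ∈ R, f r = t}
      one_mem' := ⟨1, one_mem _, hfone⟩
      mul_mem' := by
        rintro _ _ ⟨r, hr, rfl⟩ ⟨s, hs, rfl⟩
        exact ⟨r * s, mul_mem hr hs, hfmul r hr s hs⟩
      inv_mem' := by
        rintro _ ⟨r, hr, rfl⟩
        refine ⟨r⁻¹, inv_mem hr, eq_inv_of_mul_eq_one_left ?_⟩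
        rw [← hfmul _ (inv_mem hr) _ hr, inv_mul_cancel, hfone] }
  have hVZ : ∀ t ∈ V, t ∈ Z := by rintro _ ⟨r, hr, rfl⟩; exact hfZ r hr
  -- `w` fixes no non-trivial element of `V`
  have hVfix : ∀ t ∈ V, w * t * w⁻¹ = t → t = 1 := by
    rintro _ ⟨r, hr, rfl⟩ hfix
    set t := f r with ht
    have hpow : ∀ n : ℕ, w ^ n * r * (w ^ n)⁻¹ = t ^ n * r := by
      intro n
      induction n with
      | zero => simp
      | succ n ih =>
        have htn : w * t ^ n * w⁻¹ = t ^ n := by rw [← conj_pow, hfix]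
        calc w ^ (n + 1) * r * (w ^ (n + 1))⁻¹ = w * (w ^ n * r * (w ^ n)⁻¹) * w⁻¹ := by
              rw [pow_succ']; group
          _ = (w * t ^ n * w⁻¹) * (w * r * w⁻¹) := by rw [ih]; group
          _ = t ^ n * (t * r) := by rw [htn]; simp only [ht, hf, inv_mul_cancel_right]
          _ = t ^ (n + 1) * r := by rw [pow_succ]; simp only [ht, hf]; group
    have h1 : t ^ orderOf w = 1 := by simpa [pow_orderOf_eq_one] using (hpow (orderOf w)).symm
    obtain ⟨e, he⟩ := hS ⟨t, hRS (hfZ r hr).1⟩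
    have h2 : t ^ 2 ^ e = 1 := by simpa using congrArg Subtype.val he
    have := pow_gcd_eq_one.mpr ⟨h1, h2⟩
    rwa [Nat.Coprime.gcd_eq_one (Nat.Coprime.pow_right e (Nat.coprime_two_right.mpr ⟨o, ho⟩)),
      pow_one] at this
  -- `f` maps `V` onto `V`
  have hfV : ∀ t ∈ V, ∃ s ∈ V, f s = t := by
    let g : V → V := fun s => ⟨f s, s, (hVZ _ s.2).1, rfl⟩
    have hg : Function.Injective g := by
      intro s s' h
      have h' : f (s : G) = f (s' : G) := congrArg Subtype.val h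
      have h1 : f ((s : G) * (s' : G)⁻¹) = 1 := by
        have hs'R : (s' : G) ∈ R := (hVZ _ s'.2).1
        rw [hfmul _ (hVZ _ s.2).1 _ (inv_mem hs'R), h', ← hfmul _ hs'R _ (inv_mem hs'R),
          mul_inv_cancel, hfone]
      have h2 := hVfix _ (mul_mem s.2 (inv_mem s'.2)) (mul_inv_eq_one.mp h1)
      exact Subtype.ext (mul_inv_eq_one.mp h2)
    intro t ht
    obtain ⟨s, hs⟩ := (Finite.injective_iff_surjective.mp hg) ⟨t, ht⟩
    exact ⟨s, s.2, congrArg Subtype.val hs⟩
  -- `x` normalizes `V`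
  have hxV : ∀ t ∈ V, x * t * x⁻¹ ∈ V := by
    intro t ht
    obtain ⟨s, hs, rfl⟩ := hfV t ht
    have hsZ := hVZ s hs
    set s' := x * s * x⁻¹
    have hs'Z : s' ∈ Z := hZn x hxN s hsZ
    set s'' := w⁻¹ * s' * w with hs''
    have hs''Z : s'' ∈ Z := by
      have := hZn w⁻¹ (inv_mem hw) s' hs'Z
      rwa [inv_inv] at this
    have hfix : u₀ * s'' * u₀⁻¹ = s'' := by
      rw [hu _ hs''Z.1, hZc _ hs''Z c hc, mul_inv_cancel_right]
    refine (show x * f s * x⁻¹ = (f s'')⁻¹ from ?_) ▸ V.inv_mem ⟨s'', hs''Z.1, rfl⟩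
    calc x * f s * x⁻¹ = u₀ * s'' * u₀⁻¹ * s'⁻¹ := by
          simp only [hf, hs'', hu₀, s']; group
      _ = s'' * s'⁻¹ := by rw [hfix]
      _ = (f s'')⁻¹ := by simp only [hf, hs'']; group
  -- elements of `S` act on `V` as `1` or as `x`
  have hRV : ∀ r ∈ R, ∀ t ∈ V, r * t = t * r := fun r hr t ht => hZc t (hVZ t ht) r hr
  have hxnot : ∃ p ∈ V, x * p ≠ p * x := by
    by_contra hall
    push Not at hall
    refine hwc (Subgroup.mem_centralizer_iff.mpr fun r hr => ?_)
    have hxv : x ∈ centralizer (V : Set G) :=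
      Subgroup.mem_centralizer_iff.mpr fun t ht => (hall t ht).symm
    have hVw : ∀ t ∈ V, w * t * w⁻¹ ∈ V := by
      rintro _ ⟨s, hs, rfl⟩
      exact ⟨w * s * w⁻¹, hRn w hw s hs, by simp only [hf]; group⟩
    have huV : u₀ ∈ centralizer (V : Set G) := by
      refine Subgroup.mem_centralizer_iff.mpr fun t ht => ?_
      have := hu t (hVZ t ht).1
      rw [hZc t (hVZ t ht) c hc, mul_inv_cancel_right] at this
      exact (mul_inv_eq_iff_eq_mul.mp this).symm
    have hwV : w ∈ centralizer (V : Set G) := by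
      refine (hw2 (centralizer (V : Set G) ⊓ normalizer (V : Set G)) ⟨hxv, ?_⟩ ⟨huV, ?_⟩
        fun k hk => ?_).1
      · exact centralizer_le_normalizer _ hxv
      · exact centralizer_le_normalizer _ huV
      · have hwN : w ∈ normalizer (V : Set G) := mem_normalizer_fintype hVw
        have hk' : w * k * w⁻¹ ∈ centralizer (V : Set G) := by
          refine Subgroup.mem_centralizer_iff.mpr fun t ht => ?_
          have h := Subgroup.mem_centralizer_iff.mp hk.1 _
            ((Subgroup.mem_normalizer_iff.mp (inv_mem hwN) t).mp ht)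
          rw [inv_inv] at h
          calc t * (w * k * w⁻¹) = w * (w⁻¹ * t * w * k) * w⁻¹ := by group
            _ = w * (k * (w⁻¹ * t * w)) * w⁻¹ := by rw [h]
            _ = w * k * w⁻¹ * t := by group
        exact ⟨hk', centralizer_le_normalizer _ hk'⟩
    have hmem : f r ∈ V := ⟨r, hr, rfl⟩
    have h1 : f r = 1 := hVfix _ hmem
      (mul_inv_eq_iff_eq_mul.mpr (Subgroup.mem_centralizer_iff.mp hwV _ hmem).symm)
    exact (mul_inv_eq_iff_eq_mul.mp (mul_inv_eq_one.mp h1)).symm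
  obtain ⟨p₀, hp₀, hp₀x⟩ := hxnot
  by_cases hA' : ∀ a : A, ∀ t ∈ V, φ a t ∈ R
  · -- the conjugates of `V` commute
    let R₀ : Subgroup G :=
      { carrier := {r | r ∈ S ∧ ∀ a : A, ∀ t ∈ V, r * φ a t = φ a t * r}
        one_mem' := ⟨one_mem _, fun a t _ => by simp⟩
        mul_mem' := fun {r s} hr hs => ⟨mul_mem hr.1 hs.1, fun a t ht => by
          rw [mul_assoc, hs.2 a t ht, ← mul_assoc, hr.2 a t ht, mul_assoc]⟩
        inv_mem' := fun {r} hr => ⟨inv_mem hr.1, fun a t ht =>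
          (Commute.inv_left (hr.2 a t ht)).eq⟩ }
    have hVR₀ : ∀ t ∈ V, t ∈ R₀ := fun t ht =>
      ⟨hRS (hVZ t ht).1, fun a s hs => (hRV _ (hA' a s hs) t ht).symm⟩
    have hR₀R : ∀ r ∈ R₀, r ∈ R := by
      intro r hr
      refine (hcos r hr.1).resolve_right fun h => hp₀x ?_
      have h1 := hr.2 1 p₀ hp₀
      rw [map_one, MulAut.one_apply] at h1
      have h2 := hRV _ h p₀ hp₀
      calc x * p₀ = r * ((x⁻¹ * r)⁻¹ * p₀) := by group
        _ = r * (p₀ * (x⁻¹ * r)⁻¹) := by rw [(Commute.inv_left h2).eq]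
        _ = p₀ * (r * (x⁻¹ * r)⁻¹) := by rw [← mul_assoc, h1, mul_assoc]
        _ = p₀ * x := by group
    refine ⟨R₀, ?_, fun r hr => hr.1, ?_, ?_, ?_, ?_⟩
    · intro h
      exact hp₀x (by rw [show p₀ = 1 from (Subgroup.mem_bot.mp (h ▸ hVR₀ p₀ hp₀ : p₀ ∈ (⊥ : Subgroup G)))]; simp)
    · intro s hs
      refine mem_normalizer_fintype fun r (hr : r ∈ R₀) => ?_
      refine ⟨mul_mem (mul_mem hs hr.1) (inv_mem hs), fun a t ht => ?_⟩
      have hat : φ a t ∈ S := hSA a t (hRS (hVZ t ht).1)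
      have e : s * r * s⁻¹ = ⁅s, r⁆ * r := by rw [commutatorElement_def, inv_mul_cancel_right]
      rw [e, mul_assoc, hr.2 a t ht, ← mul_assoc, hcl s hs r hr.1 _ hat, mul_assoc]
    · intro a r hr
      refine ⟨hSA a r hr.1, fun a' t ht => ?_⟩
      have h := congrArg (φ a) (hr.2 (a⁻¹ * a') t ht)
      simpa [map_mul] using h
    · refine mem_normalizer_fintype fun r (hr : r ∈ R₀) => ?_
      rw [show w * r * w⁻¹ = f r * r by simp only [hf]; group]
      exact mul_mem (hVR₀ _ ⟨r, hR₀R r hr, rfl⟩) hr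
    · intro h
      have := hVfix p₀ hp₀ (mul_inv_eq_iff_eq_mul.mpr
        (Subgroup.mem_centralizer_iff.mp h p₀ (hVR₀ p₀ hp₀)).symm)
      exact hp₀x (by rw [this]; simp)
  · exfalso
    push Not at hA'
    obtain ⟨a, q, hq, hqR⟩ := hA'
    have hqS : φ a q ∈ S := hSA a q (hRS (hVZ q hq).1)
    have hxq : x⁻¹ * φ a q ∈ R := (hcos _ hqS).resolve_left hqR
    -- non-fixed points of `x` on `V` form one coset of the fixed points
    have hact : ∀ p ∈ V, (φ a q * p = p * φ a q ↔ x * p = p * x) := by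
      intro p hp
      have h2 : (x⁻¹ * φ a q) * p = p * (x⁻¹ * φ a q) := hRV _ hxq p hp
      have e : φ a q * p * (φ a q)⁻¹ = x * p * x⁻¹ := by
        calc φ a q * p * (φ a q)⁻¹ = x * ((x⁻¹ * φ a q) * p) * (φ a q)⁻¹ := by group
          _ = x * (p * (x⁻¹ * φ a q)) * (φ a q)⁻¹ := by rw [h2]
          _ = x * p * x⁻¹ := by group
      rw [← mul_inv_eq_iff_eq_mul, e, mul_inv_eq_iff_eq_mul]
    have hinvS : ∀ s ∈ S, (φ a⁻¹) s ∈ S := hSA a⁻¹
    have hcoset : ∀ p ∈ V, ∀ p' ∈ V, x * p ≠ p * x → x * p' ≠ p' * x →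
        x * (p⁻¹ * p') = p⁻¹ * p' * x := by
      intro p hp p' hp' h h'
      refine (hact _ (mul_mem (inv_mem hp) hp')).mp ?_
      -- preimages under `φ a`
      have key : ∀ t ∈ V, x * t ≠ t * x → x⁻¹ * φ a⁻¹ t ∈ R := by
        intro t ht hne
        refine (hcos _ (hinvS t (hRS (hVZ t ht).1))).resolve_left fun hin => hne ((hact t ht).mp ?_)
        have := congrArg (φ a) (hRV _ hin q hq)
        simpa [map_mul] using this.symm
      have hin : φ a⁻¹ (p⁻¹ * p') ∈ R := by
        have := mul_mem (inv_mem (key p hp h)) (key p' hp' h')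
        simpa [map_mul, mul_assoc] using this
      have := congrArg (φ a) (hRV _ hin q hq)
      simpa [map_mul] using this.symm
    have hfixsub : ∀ p ∈ V, ∀ p' ∈ V, x * p = p * x → x * p' = p' * x →
        x * (p⁻¹ * p') = p⁻¹ * p' * x := fun p _ p' _ h h' =>
      ((Commute.inv_right (h : Commute x p)).mul_right h').eq
    -- two fixed points of `x` are not related by `w`
    have hsep : ∀ h ∈ V, x * h = h * x → x * (w * h * w⁻¹) = w * h * w⁻¹ * x → h = 1 := by
      intro h hh h1 h2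
      have hh' : w * h * w⁻¹ ∈ V := by
        obtain ⟨s, hs, rfl⟩ := hh
        exact ⟨w * s * w⁻¹, hRn w hw s hs, by simp only [hf]; group⟩
      have e1 : u₀ * h * u₀⁻¹ = h := by
        rw [hu h (hVZ h hh).1, hZc h (hVZ h hh) c hc, mul_inv_cancel_right]
      have e2 : w⁻¹ * h * w = w * h * w⁻¹ := by
        calc w⁻¹ * h * w = w⁻¹ * (x⁻¹ * (u₀ * h * u₀⁻¹) * x) * w := by
              rw [e1, mul_assoc x⁻¹ h x, ← h1, inv_mul_cancel_left]
          _ = x⁻¹ * (w * h * w⁻¹) * x := by simp only [hu₀]; group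
          _ = w * h * w⁻¹ := by rw [mul_assoc, ← h2, inv_mul_cancel_left]
      have e3 : w ^ 2 * h * (w ^ 2)⁻¹ = h := by
        calc w ^ 2 * h * (w ^ 2)⁻¹ = w * (w * h * w⁻¹) * w⁻¹ := by rw [pow_two]; group
          _ = w * (w⁻¹ * h * w) * w⁻¹ := by rw [e2]
          _ = h := by group
      refine hVfix h hh ?_
      have hc2 : Commute (w ^ 2) h := mul_inv_eq_iff_eq_mul.mp e3
      have := hc2.pow_left (o + 1)
      rw [← pow_mul, show 2 * (o + 1) = orderOf w + 1 by omega, pow_succ, pow_orderOf_eq_one,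
        one_mul] at this
      exact mul_inv_eq_iff_eq_mul.mpr this
    have hwV : ∀ t ∈ V, w * t * w⁻¹ ∈ V := by
      rintro _ ⟨s, hs, rfl⟩
      exact ⟨w * s * w⁻¹, hRn w hw s hs, by simp only [hf]; group⟩
    have huniq : ∀ h ∈ V, ∀ h' ∈ V, x * h = h * x → x * h' = h' * x → h ≠ 1 → h' ≠ 1 → h = h' := by
      intro h hh h' hh' e e' h1 h1'
      have n1 : x * (w * h * w⁻¹) ≠ w * h * w⁻¹ * x := fun hh2 => h1 (hsep h hh e hh2)
      have n2 : x * (w * h' * w⁻¹) ≠ w * h' * w⁻¹ * x := fun hh2 => h1' (hsep h' hh' e' hh2)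
      have h3 := hcoset _ (hwV h hh) _ (hwV h' hh') n1 n2
      rw [show (w * h * w⁻¹)⁻¹ * (w * h' * w⁻¹) = w * (h⁻¹ * h') * w⁻¹ by group] at h3
      exact inv_mul_eq_one.mp (hsep _ (mul_mem (inv_mem hh) hh') (hfixsub h hh h' hh' e e') h3)
    -- a non-trivial fixed point
    obtain ⟨z, hz, hzx, hz1⟩ : ∃ z ∈ V, x * z = z * x ∧ z ≠ 1 := by
      by_contra hno
      push Not at hno
      have hone : ∀ p ∈ V, p = 1 ∨ p = p₀ := by
        intro p hp
        by_cases h : x * p = p * x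
        · exact Or.inl (hno p hp h)
        · exact Or.inr (inv_mul_eq_one.mp (hno _ (mul_mem (inv_mem hp₀) hp)
            (hcoset p₀ hp₀ p hp hp₀x h))).symm
      rcases hone _ (hwV p₀ hp₀) with h | h
      · exact hp₀x (by rw [show p₀ = 1 by simpa [mul_inv_eq_one] using h]; simp)
      · exact hp₀x (by rw [hVfix p₀ hp₀ h]; simp)
    set v := p₀ with hv
    have hfour : ∀ p ∈ V, p = 1 ∨ p = z ∨ p = v ∨ p = v * z := by
      intro p hp
      by_cases h : x * p = p * x
      · by_cases h1 : p = 1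
        · exact Or.inl h1
        · exact Or.inr (Or.inl (huniq p hp z hz h hzx h1 hz1))
      · have h2 := hcoset v hp₀ p hp hp₀x h
        by_cases h1 : v⁻¹ * p = 1
        · exact Or.inr (Or.inr (Or.inl (inv_mul_eq_one.mp h1).symm))
        · exact Or.inr (Or.inr (Or.inr (inv_mul_eq_iff_eq_mul.mp
            (huniq _ (mul_mem (inv_mem hp₀) hp) z hz h2 hzx h1 hz1))))
    have hz2 : z * z = 1 := by
      by_contra h
      exact hz1 (mul_left_cancel (a := z) (by
        rw [huniq _ (mul_mem hz hz) z hz (Commute.mul_right hzx hzx).eq hzx h hz1, mul_one]))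
    have hvv : ∀ p ∈ V, p * p = 1 ∨ p * p = z := by
      intro p hp
      by_cases h1 : p * p = 1
      · exact Or.inl h1
      refine Or.inr (huniq _ (mul_mem hp hp) z hz ?_ hzx h1 hz1)
      by_contra h
      by_cases hpx : x * p = p * x
      · exact h (Commute.mul_right hpx hpx).eq
      · have := hcoset p hp _ (mul_mem hp hp) hpx h
        rw [inv_mul_cancel_left] at this
        exact hpx this
    have hzv : z * v = v * z := hRV z (hVZ z hz).1 v hp₀
    have hv2 : v * v = 1 := by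
      refine (hvv v hp₀).resolve_right fun hvz => ?_
      have e : w * z * w⁻¹ = (w * v * w⁻¹) * (w * v * w⁻¹) := by rw [← hvz]; group
      have h4 : w * z * w⁻¹ ≠ 1 := fun h => hz1 (by simpa [mul_inv_eq_one] using h)
      refine hz1 (hVfix z hz ?_)
      rcases hfour _ (hwV v hp₀) with h | h | h | h <;> rw [h] at e
      · exact absurd (e.trans (one_mul 1)) h4
      · exact absurd (e.trans hz2) h4
      · exact e.trans hvz
      · rw [e, show v * z * (v * z) = v * (z * v) * z by group, hzv, ← mul_assoc, hvz, hz2,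
          one_mul]
    have hzc : ∀ s ∈ S, z * s = s * z := by
      intro s hs
      rcases hcos s hs with h | h
      · exact (hRV s h z hz).symm
      · have h2 := hRV _ h z hz
        calc z * s = z * x * (x⁻¹ * s) := by group
          _ = x * (z * (x⁻¹ * s)) := by rw [← hzx, mul_assoc]
          _ = s * z := by rw [← h2]; group
    have hrel0 : x * v = z * (v * x) := by
      have hm : x * v * x⁻¹ * v⁻¹ ∈ V := mul_mem (hxV v hp₀) (inv_mem hp₀)
      have hcm : x * (x * v * x⁻¹ * v⁻¹) = x * v * x⁻¹ * v⁻¹ * x := by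
        have := hcl x hx v (hRS (hVZ v hp₀).1) x hx
        rw [commutatorElement_def] at this
        exact this.symm
      have hne : x * v * x⁻¹ * v⁻¹ ≠ 1 := fun h => hp₀x (by
        rwa [mul_inv_eq_one, mul_inv_eq_iff_eq_mul] at h)
      rw [← huniq _ hm z hz hcm hzx hne hz1]; group
    have hrel : ∀ s ∈ S, s * v ≠ v * s → s * v = z * (v * s) := by
      intro s hs hne
      have h := (hcos s hs).resolve_left fun h => hne (hRV s h v hp₀)
      have h2 := hRV _ h v hp₀
      calc s * v = x * ((x⁻¹ * s) * v) := by group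
        _ = x * v * (x⁻¹ * s) := by rw [h2, mul_assoc]
        _ = z * (v * s) := by rw [hrel0]; group
    have hcR : ∀ s ∈ S, s * v = v * s → s ∈ R := by
      intro s hs he
      refine (hcos s hs).resolve_right fun h => hp₀x ?_
      have h2 := hRV _ h v hp₀
      calc x * v = s * ((x⁻¹ * s)⁻¹ * v) := by group
        _ = s * (v * (x⁻¹ * s)⁻¹) := by rw [(Commute.inv_left h2).eq]
        _ = v * (s * (x⁻¹ * s)⁻¹) := by rw [← mul_assoc, he, mul_assoc]
        _ = v * x := by group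
    have hvS : v ∈ S := hRS (hVZ v hp₀).1
    have hzS : z ∈ S := hRS (hVZ z hz).1
    have hazc : ∀ (b : A) (s : G), s ∈ S → φ b z * s = s * φ b z := by
      intro b s hs
      have h := congrArg (φ b) (hzc _ (hSA b⁻¹ s hs))
      simpa [map_mul] using h
    have hazR : φ a z ∈ R := hcR _ (hSA a z hzS) (hazc a v hvS)
    have hav : φ a v * v ≠ v * φ a v := by
      intro h
      have hR' := hcR _ (hSA a v hvS) h
      apply hqR
      rcases hfour q hq with rfl | rfl | rfl | rfl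
      · rw [map_one]; exact one_mem R
      · exact hazR
      · exact hR'
      · rw [map_mul]; exact mul_mem hR' hazR
    have haz : φ a z = z := by
      have e1 : φ a v * v = z * (v * φ a v) := hrel _ (hSA a v hvS) hav
      have hne : φ a⁻¹ v * v ≠ v * φ a⁻¹ v := fun h => hav (by
        have := congrArg (φ a) h
        simpa [map_mul] using this.symm)
      have e2 := congrArg (φ a) (hrel _ (hSA a⁻¹ v hvS) hne)
      simp only [map_mul, map_inv, MulAut.apply_inv_self] at e2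
      have e3 : v * φ a v = φ a z * z * (v * φ a v) := by
        calc v * φ a v = φ a z * (φ a v * v) := e2
          _ = φ a z * z * (v * φ a v) := by rw [e1, mul_assoc]
      have h4 : φ a z * z = 1 := mul_eq_right.mp e3.symm
      calc φ a z = φ a z * (z * z) := by rw [hz2, mul_one]
        _ = z := by rw [← mul_assoc, h4, one_mul]
    have hfz : f z ≠ 1 := fun h => hz1 (hVfix z hz (mul_inv_eq_one.mp h))
    refine hav (commute_of_odd_orbit (φ a) ?_ (hSA a) hvS hv2 hz1 hz2 hzc haz hrel ?_ ?_)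
    · exact hA.of_dvd_nat ((orderOf_map_dvd φ a).trans (orderOf_dvd_natCard a))
    · intro p hp p' hp' hpv hp'v he
      have hpR := hcR p hp hpv
      have hp'R := hcR p' hp' hp'v
      apply hfz
      have hzR := (hVZ z hz).1
      have h := congrArg f he
      rw [hfmul _ hpR _ hp'R, hfmul _ hzR _ (mul_mem hp'R hpR), hfmul _ hp'R _ hpR,
        hZc _ (hfZ p' hp'R) _ (hfZ p hpR).1] at h
      exact mul_eq_right.mp h.symm
    · intro p hp hpv he
      have hpR := hcR p hp hpv
      apply hfz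
      rw [← he, hfmul _ hpR _ hpR]
      rcases hfour _ (show f p ∈ V from ⟨p, hpR, rfl⟩) with h | h | h | h <;> rw [h]
      · simp
      · exact hz2
      · exact hv2
      · rw [show v * z * (v * z) = v * (z * v) * z by group, hzv, ← mul_assoc, hv2, one_mul, hz2]

end CfsgLib.Subnormal
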