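import Mathlib
import Cfsg.Agent.Lib.Subnormal.Basic
import Cfsg.Agent.Lib.Subnormal.ClassTwo
import Cfsg.Agent.Lib.Cores.PCore
import Cfsg.Agent.Lib.CoprimeAction.Sylow
import Cfsg.Agent.Lib.NormalPComplement.GlaubermanThompson
import Cfsg.Agent.Lib.FixedPointFree.Splitting

/-!
Finite groups with a nilpotent maximal subgroup (Thompson, Deskins, Janko):
* normal `p`-complements from local complements for Sylow subgroups of class at most two;
* the reduction of solvability to normal `p`-complements in the core-free case.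
-/

set_option autoImplicit false
set_option linter.style.haveILetI false

namespace CfsgLib.Subnormal

universe u

open Cfsg Subgroup
open scoped Pointwise commutatorElement

/-- If the Sylow `p`-subgroup `S` has class at most two and the normalizer of each non-trivial
normal subgroup of `S` has a normal `p`-complement, so does `G`. -/
theorem hasNormalPComplement_of_classTwo {G : Type*} [Group G] [Finite G] {p : ℕ}
    [Fact p.Prime] (S : Sylow p G)
    (hcl : ∀ x ∈ (S : Subgroup G), ∀ y ∈ (S : Subgroup G), ∀ z ∈ (S : Subgroup G),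
      ⁅x, y⁆ * z = z * ⁅x, y⁆)
    (hloc : ∀ R : Subgroup G, R ≤ (S : Subgroup G) → R ≠ ⊥ →
      (S : Subgroup G) ≤ normalizer (R : Set G) →
        HasNormalPComplement p ↥(normalizer (R : Set G))) :
    HasNormalPComplement p G := by
  refine NormalPComplement.hasNormalPComplement_of_frobeniusCondition fun Q hQ g hg hcop => ?_
  rcases eq_or_ne Q ⊥ with rfl | hne
  · exact Subgroup.mem_centralizer_iff.2 fun x hx => by rw [Subgroup.mem_bot.1 hx]; simp
  set L := normalizer (Q : Set G) with hLdef
  obtain ⟨T⟩ : Nonempty (Sylow p L) := inferInstance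
  obtain ⟨S', hS'⟩ := (T.2.map L.subtype).exists_le_sylow
  obtain ⟨c, hc⟩ := MulAction.exists_smul_eq G S S'
  -- the hypotheses for `S'`
  have hS'eq : (S' : Subgroup G) = (S : Subgroup G).map (MulAut.conj c).toMonoidHom := by
    rw [← hc, Sylow.coe_subgroup_smul]; rfl
  have hconj : ∀ {R : Subgroup G}, R ≤ (S' : Subgroup G) → R ≠ ⊥ →
      (S' : Subgroup G) ≤ normalizer (R : Set G) → HasNormalPComplement p ↥(normalizer (R : Set G)) := by
    intro R hR hR1 hn
    set f := (MulAut.conj c⁻¹).toMonoidHom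
    have hRS : R.map f ≤ (S : Subgroup G) := by
      rintro _ ⟨x, hx, rfl⟩
      obtain ⟨y, hy, rfl⟩ := hS'eq ▸ hR hx
      simp [f, mul_assoc]
      exact hy
    have hnorm : (normalizer (R : Set G)).map f = normalizer ((R.map f : Subgroup G) : Set G) :=
      Subgroup.map_equiv_normalizer_eq R (MulAut.conj c⁻¹)
    have h := hloc _ hRS
      (fun h => hR1 ((Subgroup.map_eq_bot_iff_of_injective R (MulEquiv.injective _)).mp h)) (by
      intro x hx
      rw [← hnorm]
      exact ⟨MulAut.conj c x, hn (hS'eq ▸ ⟨x, hx, rfl⟩), by simp [f, mul_assoc]⟩)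
    rw [← hnorm] at h
    exact (NormalPComplement.hasNormalPComplement_congr
      ((normalizer (R : Set G)).equivMapOfInjective f (MulEquiv.injective _))).mpr h
  have hcl' : ∀ x ∈ (S' : Subgroup G), ∀ y ∈ (S' : Subgroup G), ∀ z ∈ (S' : Subgroup G),
      ⁅x, y⁆ * z = z * ⁅x, y⁆ := by
    rw [hS'eq]
    rintro _ ⟨x, hx, rfl⟩ _ ⟨y, hy, rfl⟩ _ ⟨z, hz, rfl⟩
    rw [← map_commutatorElement, ← map_mul, ← map_mul, hcl x hx y hy z hz]
  -- `Q` lies in `S'`
  have hQL : Q ≤ L := Subgroup.le_normalizer
  have hQT : Q.subgroupOf L ≤ (T : Subgroup L) := by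
    have : (Q.subgroupOf L).Normal := Subgroup.normal_in_normalizer
    exact (Cores.le_pCore (show IsPGroup p (Q.subgroupOf L) from hQ.comap_subtype)).trans
      (Cores.pCore_le_sylow T)
  have hQS : Q ≤ (S' : Subgroup G) := fun x hx =>
    hS' ⟨⟨x, hQL hx⟩, hQT (show (⟨x, hQL hx⟩ : L) ∈ Q.subgroupOf L from hx), rfl⟩
  -- the centralizer of `Q` in `L` and its Sylow subgroup in `S'`
  set C : Subgroup L := (centralizer (Q : Set G)).subgroupOf L
  have hCn : C.Normal := by
    refine ⟨fun x hx n => Subgroup.mem_subgroupOf.mpr (Subgroup.mem_centralizer_iff.mpr fun y hy => ?_)⟩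
    have hy' : (n : G)⁻¹ * y * (n : G) ∈ Q := by
      simpa using (Subgroup.mem_normalizer_iff.mp (L.inv_mem n.2) y).mp hy
    have h1 := Subgroup.mem_centralizer_iff.mp (Subgroup.mem_subgroupOf.mp hx) _ hy'
    simp only [Subgroup.coe_mul, InvMemClass.coe_inv]
    calc y * ((n : G) * x * (n : G)⁻¹) = (n : G) * (((n : G)⁻¹ * y * n) * x) * (n : G)⁻¹ := by group
      _ = (n : G) * (x * ((n : G)⁻¹ * y * n)) * (n : G)⁻¹ := by rw [h1]
      _ = (n : G) * x * (n : G)⁻¹ * y := by group
  obtain ⟨D⟩ : Nonempty (Sylow p C) := inferInstance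
  obtain ⟨T₁, hT₁⟩ := (D.2.map C.subtype).exists_le_sylow
  obtain ⟨d, hd⟩ := MulAction.exists_smul_eq L T₁ T
  have hDmax : ∀ E : Subgroup L, E ≤ C → IsPGroup p E →
      Nat.card E ≤ Nat.card (D : Subgroup C) := by
    intro E hE hEp
    obtain ⟨D', hD'⟩ := (hEp.comap_subtype : IsPGroup p (E.subgroupOf C)).exists_le_sylow
    rw [← Nat.card_congr (Subgroup.subgroupOfEquivOfLe hE).toEquiv, D.card_eq_multiplicity,
      ← D'.card_eq_multiplicity]
    exact Subgroup.card_le_of_le hD'
  set D₀ : Subgroup L := C ⊓ (T : Subgroup L) with hD₀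
  have hD₀p : IsPGroup p D₀ := T.2.to_le inf_le_right
  have hD₀card : Nat.card D₀ = Nat.card (D : Subgroup C) := by
    refine le_antisymm (hDmax D₀ inf_le_left hD₀p) ?_
    have hle : ((D : Subgroup C).map C.subtype).map (MulAut.conj d).toMonoidHom ≤ D₀ := by
      refine le_inf ?_ ?_
      · rintro _ ⟨_, ⟨x, -, rfl⟩, rfl⟩
        exact hCn.conj_mem _ x.2 d
      · rw [← hd, Sylow.coe_subgroup_smul]
        exact Subgroup.map_mono hT₁
    have := Subgroup.card_le_of_le hle
    rwa [Subgroup.card_map_of_injective (MulEquiv.injective _),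
      Subgroup.card_map_of_injective C.subtype_injective] at this
  obtain ⟨D', hD'⟩ := (hD₀p.comap_subtype : IsPGroup p (D₀.subgroupOf C)).exists_le_sylow
  have hD'eq : (D' : Subgroup C).map C.subtype = D₀ := by
    refine (Subgroup.eq_of_le_of_card_ge ?_ ?_).symm
    · have := Subgroup.map_mono (f := C.subtype) hD'
      rwa [Subgroup.map_comap_eq, Subgroup.range_subtype,
        inf_eq_right.mpr (inf_le_left : D₀ ≤ C)] at this
    · rw [Subgroup.card_map_of_injective C.subtype_injective, hD₀card, D'.card_eq_multiplicity,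
        D.card_eq_multiplicity]
  have hfrat := Sylow.normalizer_sup_eq_top D'
  rw [hD'eq] at hfrat
  obtain ⟨n, hn, m, hm, hnm⟩ := Subgroup.mem_sup_of_normal_right.mp
    (hfrat.symm ▸ Subgroup.mem_top (⟨g, hg⟩ : L) :
      (⟨g, hg⟩ : L) ∈ normalizer (D₀ : Set L) ⊔ C)
  -- the product `R = Q D₀` is normal in `S'`
  set R := Q ⊔ D₀.map L.subtype with hRdef
  have hRS : R ≤ (S' : Subgroup G) :=
    sup_le hQS ((Subgroup.map_mono inf_le_right).trans hS')
  have hcomm : ∀ x ∈ (S' : Subgroup G), ∀ y ∈ (S' : Subgroup G), ⁅x, y⁆ ∈ R := by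
    intro x hx y hy
    have hcen : ⁅x, y⁆ ∈ centralizer (Q : Set G) :=
      Subgroup.mem_centralizer_iff.mpr fun z hz => (hcl' x hx y hy z (hQS hz)).symm
    have hcL : ⁅x, y⁆ ∈ L := Subgroup.centralizer_le_normalizer _ hcen
    refine Subgroup.mem_sup_right ⟨⟨_, hcL⟩, ⟨Subgroup.mem_subgroupOf.mpr hcen, ?_⟩, rfl⟩
    -- a `p`-element of `L` commuting with all of `T` lies in `T`
    have hxyS : ⁅x, y⁆ ∈ (S' : Subgroup G) := by
      rw [commutatorElement_def]
      exact mul_mem (mul_mem (mul_mem hx hy) (inv_mem hx)) (inv_mem hy)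
    have hle : (T : Subgroup L) ≤ (S' : Subgroup G).subgroupOf L := fun t ht =>
      Subgroup.mem_subgroupOf.mpr (hS' ⟨t, ht, rfl⟩)
    rw [← T.3 S'.2.comap_subtype hle]
    exact Subgroup.mem_subgroupOf.mpr hxyS
  have hRn : (S' : Subgroup G) ≤ normalizer (R : Set G) := by
    intro s hs
    rw [Subgroup.mem_normalizer_iff]
    intro z
    constructor
    · intro hz
      have h1 := R.mul_mem (hcomm s hs z (hRS hz)) hz
      rwa [commutatorElement_def, inv_mul_cancel_right] at h1
    · intro hz
      have h1 := R.mul_mem (hcomm s⁻¹ (inv_mem hs) _ (hRS hz)) hz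
      rw [commutatorElement_def, inv_mul_cancel_right, inv_inv] at h1
      simpa [mul_assoc] using h1
  have hR1 : R ≠ ⊥ := fun h => hne (le_bot_iff.mp (h ▸ le_sup_left))
  have hnR : (n : G) ∈ normalizer (R : Set G) := by
    have h2 : (n : G) ∈ normalizer ((D₀.map L.subtype : Subgroup G) : Set G) :=
      Subgroup.le_normalizer_map L.subtype ⟨n, hn, rfl⟩
    rw [mem_normalizer_iff_map_conj] at h2 ⊢
    rw [hRdef, Subgroup.map_sup, h2, mem_normalizer_iff_map_conj.mp n.2]
  obtain ⟨i, j, hij, ⟨k, hk⟩, hj⟩ :=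
    NormalPComplement.exists_pParts (p := p) (isOfFinOrder_of_finite n)
  have hnj : n ^ j ∈ C := by
    refine Subgroup.mem_subgroupOf.mpr (Subgroup.mem_centralizer_iff.mpr fun z hz => ?_)
    exact Subgroup.mem_centralizer_iff.mp
      (NormalPComplement.mem_centralizer_of_normalizer (S'.2.to_le hRS) (hconj hRS hR1 hRn)
        (g := ((n ^ j : L) : G)) (by simpa using pow_mem hnR j)
        (by rwa [Subgroup.orderOf_coe])) z (Subgroup.mem_sup_left hz)
  have hgC : (⟨g, hg⟩ : L) ∈ C := by
    have h1 : ((⟨g, hg⟩ : L) : L ⧸ C) = ((n ^ i : L) : L ⧸ C) := by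
      rw [← hnm, QuotientGroup.mk_mul, (QuotientGroup.eq_one_iff m).mpr hm, mul_one]
      nth_rw 1 [← hij]
      rw [QuotientGroup.mk_mul, (QuotientGroup.eq_one_iff _).mpr hnj, mul_one]
    have h2 : orderOf ((n ^ i : L) : L ⧸ C) ∣ p ^ k :=
      (orderOf_map_dvd (QuotientGroup.mk' C) _).trans hk
    have h3 : (orderOf ((⟨g, hg⟩ : L) : L ⧸ C)).Coprime p :=
      hcop.coprime_dvd_left ((orderOf_map_dvd (QuotientGroup.mk' C) _).trans
        (by rw [← Subgroup.orderOf_coe]))
    rw [← h1] at h2
    rw [← QuotientGroup.eq_one_iff, ← orderOf_eq_one_iff]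
    exact Nat.eq_one_of_dvd_coprimes (h3.pow_right k) dvd_rfl h2
  exact Subgroup.mem_subgroupOf.mp hgC

/-- The core-free case: a group with a nilpotent maximal subgroup is solvable as soon as it has a
normal `p`-complement for each prime `p` dividing the order of that subgroup, given that the
normalizer of each non-trivial normal subgroup of it is the subgroup itself. -/
theorem isSolvable_of_coreFree {G : Type*} [Group G] [Finite G] (M : Subgroup G)
    (hmax : IsCoatom M)
    (hnil : Group.IsNilpotent M)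
    (hN : ∀ R : Subgroup G, R ≠ ⊥ → R ≤ M → M ≤ normalizer (R : Set G) → normalizer (R : Set G) = M)
    (hnpc : ∀ p : ℕ, p.Prime → p ∣ Nat.card M → HasNormalPComplement p G) :
    Group.IsSolvable G := by
  classical
  -- the Sylow subgroups of `M` are Sylow subgroups of `G`
  have hsyl : ∀ (p : ℕ) [Fact p.Prime], p ∣ Nat.card M → ∀ S : Sylow p G,
      Nat.card S ∣ Nat.card M := by
    intro p _ hp S
    obtain ⟨P⟩ : Nonempty (Sylow p M) := inferInstance
    obtain ⟨S₀, hS₀⟩ := (P.2.map M.subtype).exists_le_sylow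
    have hPn : (P : Subgroup M).Normal :=
      (Group.isNilpotent_of_finite_tfae.out 0 3 rfl rfl).mp hnil p ‹_› P
    have hP1 : (P : Subgroup M).map M.subtype ≠ ⊥ := fun h => P.ne_bot_of_dvd_card hp
      ((Subgroup.map_eq_bot_iff_of_injective _ M.subtype_injective).mp h)
    have hMN : M ≤ normalizer (((P : Subgroup M).map M.subtype : Subgroup G) : Set G) := by
      refine le_trans ?_ (Subgroup.le_normalizer_map M.subtype)
      rw [Subgroup.normalizer_eq_top_iff.mpr hPn, ← MonoidHom.range_eq_map, Subgroup.range_subtype]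
    have heq : (P : Subgroup M).map M.subtype = (S₀ : Subgroup G) := by
      by_contra hne
      have := S₀.2.isNilpotent
      have hlt : ((P : Subgroup M).map M.subtype).subgroupOf (S₀ : Subgroup G) < ⊤ :=
        lt_top_iff_ne_top.mpr fun h => hne (le_antisymm hS₀ (Subgroup.subgroupOf_eq_top.mp h))
      obtain ⟨x, hx, hxP⟩ := SetLike.exists_of_lt (Group.normalizerCondition_of_isNilpotent _ hlt)
      have hxN : (x : G) ∈ normalizer (((P : Subgroup M).map M.subtype : Subgroup G) : Set G) := by
        have := Subgroup.le_normalizer_map (S₀ : Subgroup G).subtype ⟨x, hx, rfl⟩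
        rwa [Subgroup.subgroupOf_map_subtype, inf_eq_left.mpr hS₀] at this
      rw [hN _ hP1 (Subgroup.map_subtype_le _) hMN] at hxN
      refine hxP (Subgroup.mem_subgroupOf.mpr ⟨⟨x, hxN⟩, ?_, rfl⟩)
      rw [← P.3 S₀.2.comap_subtype (fun t ht => Subgroup.mem_subgroupOf.mpr (hS₀ ⟨t, ht, rfl⟩))]
      exact Subgroup.mem_subgroupOf.mpr x.2
    rw [S.card_eq_multiplicity, ← S₀.card_eq_multiplicity]
    refine Subgroup.card_dvd_of_le ?_
    rw [← heq]
    exact Subgroup.map_subtype_le _
  -- the intersection of the complements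
  set K : Subgroup G := ⨅ p ∈ (Nat.card M).primeFactors, pPrimeCore p G with hKdef
  have hKn : K.Normal :=
    Subgroup.normal_iInf_normal fun p => Subgroup.normal_iInf_normal fun _ => inferInstance
  have hKco : (Nat.card K).Coprime (Nat.card M) := by
    refine Nat.coprime_of_dvd fun p hp hpK hpM => ?_
    have := Fact.mk hp
    refine hp.not_dvd_one ?_
    have hle : K ≤ pPrimeCore p G :=
      iInf₂_le p (Nat.mem_primeFactors.mpr ⟨hp, hpM, Nat.card_pos.ne'⟩)
    have h := Cores.card_coprime_of_le_pPrimeCore hle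
    rw [← h]
    exact Nat.dvd_gcd hpK dvd_rfl
  have hKsup : K ⊔ M = ⊤ := by
    refine Subgroup.eq_top_of_card_eq _ ?_
    refine Nat.dvd_antisymm (Subgroup.card_subgroup_dvd_card _) ?_
    refine (Nat.dvd_iff_prime_pow_dvd_dvd _ _).mpr fun p k hp hk => ?_
    have := Fact.mk hp
    obtain ⟨S⟩ : Nonempty (Sylow p G) := inferInstance
    have hkS : p ^ k ∣ Nat.card S := by
      rw [S.card_eq_multiplicity]
      exact pow_dvd_pow p ((hp.pow_dvd_iff_le_factorization Nat.card_pos.ne').mp hk)
    by_cases hpM : p ∣ Nat.card M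
    · exact hkS.trans ((hsyl p hpM S).trans (Subgroup.card_dvd_of_le le_sup_right))
    · refine hkS.trans (Subgroup.card_dvd_of_le (le_trans ?_ le_sup_left))
      intro x hx
      rw [hKdef]
      simp only [Subgroup.mem_iInf]
      intro q hq
      obtain ⟨hq', hqM, -⟩ := Nat.mem_primeFactors.mp hq
      have := Fact.mk hq'
      refine NormalPComplement.mem_pPrimeCore_of_coprime (hnpc q hq' hqM) ?_
      obtain ⟨e, he⟩ := S.2 ⟨x, hx⟩
      have hd : orderOf x ∣ p ^ e := orderOf_dvd_of_pow_eq_one (by simpa using congrArg Subtype.val he)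
      exact Nat.Coprime.coprime_dvd_left hd (Nat.Coprime.pow_left _
        ((Nat.coprime_primes hp hq').mpr fun h => hpM (h ▸ hqM)))
  -- `K` is a group of prime power order
  have hMn : M ≤ normalizer (K : Set G) := by
    rw [Subgroup.normalizer_eq_top_iff.mpr hKn]; exact le_top
  have hcop : (Nat.card M).Coprime (Nat.card K) := hKco.symm
  have hMsolv : Group.IsSolvable M := by
    have := hnil
    infer_instance
  have hinv : ∀ U : Subgroup G, U ≤ K → M ≤ normalizer (U : Set G) → U = ⊥ ∨ U = K := by
    intro U hUK hU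
    by_cases hUM : U ≤ M
    · left
      refine Subgroup.card_eq_one.mp ?_
      exact Nat.eq_one_of_dvd_coprimes hKco (Subgroup.card_dvd_of_le hUK) (Subgroup.card_dvd_of_le hUM)
    · right
      have htop : M ⊔ U = ⊤ := hmax.2 _ (lt_of_le_of_ne le_sup_left
        fun h => hUM (h ▸ le_sup_right))
      refine le_antisymm hUK fun x hx => ?_
      have hx' : x ∈ M ⊔ U := htop ▸ Subgroup.mem_top x
      rw [sup_comm] at hx'
      have hUn : U.Normal := Subgroup.normalizer_eq_top_iff.mp
        (top_le_iff.mp (htop ▸ sup_le hU Subgroup.le_normalizer))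
      obtain ⟨u, hu, m, hm, rfl⟩ := Subgroup.mem_sup_of_normal_left.mp hx'
      have hmK : m ∈ K := (K.mul_mem_cancel_left (hUK hu)).mp hx
      have hm1 : m = 1 := orderOf_eq_one_iff.mp (Nat.eq_one_of_dvd_coprimes hKco
        ((Nat.card_zpowers m).symm.dvd.trans (Subgroup.card_dvd_of_le (Subgroup.zpowers_le.mpr hmK)))
        ((Nat.card_zpowers m).symm.dvd.trans (Subgroup.card_dvd_of_le (Subgroup.zpowers_le.mpr hm))))
      rwa [hm1, mul_one]
  have hKsolv : Group.IsSolvable K := by
    rcases eq_or_ne (Nat.card K) 1 with hK1 | hK1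
    · have : Subsingleton K := (Nat.card_eq_one_iff_unique.mp hK1).1
      infer_instance
    obtain ⟨q, hq, hqK⟩ := Nat.exists_prime_and_dvd hK1
    have := Fact.mk hq
    obtain ⟨Q, hQ⟩ := CoprimeAction.exists_invariant_sylow hMn hcop (Or.inl hMsolv) q
    rcases hinv _ (Subgroup.map_subtype_le _) hQ with h | h
    · exact absurd ((Subgroup.map_eq_bot_iff_of_injective _ K.subtype_injective).mp h)
        (Q.ne_bot_of_dvd_card hqK)
    · have hKp : IsPGroup q K := h ▸ Q.2.map K.subtype
      have := hKp.isNilpotent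
      infer_instance
  have hquot : Group.IsSolvable (G ⧸ K) := by
    have hsurj : Function.Surjective ((QuotientGroup.mk' K).comp M.subtype) := by
      intro y
      obtain ⟨g, rfl⟩ := QuotientGroup.mk_surjective y
      have : g ∈ K ⊔ M := hKsup ▸ Subgroup.mem_top g
      obtain ⟨k, hk, m, hm, rfl⟩ := Subgroup.mem_sup_of_normal_left.mp this
      refine ⟨⟨m, hm⟩, ?_⟩
      change (m : G ⧸ K) = (k : G ⧸ K) * (m : G ⧸ K)
      rw [(QuotientGroup.eq_one_iff k).mpr hk, one_mul]
    exact Group.isSolvable_of_surjective hsurj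
  exact Group.isSolvable_of_ker_le_range K.subtype (QuotientGroup.mk' K) (by simp)

/-- Reduction of solvability of a group with a nilpotent maximal subgroup to normal `p`-complements
in the core-free case, for a property `Pr` of the maximal subgroup inherited by quotients. -/
theorem isSolvable_of_nilpotent_maximal
    (Pr : ∀ (G : Type u) [Group G], Subgroup G → Prop)
    (hPr : ∀ (G : Type u) [Group G] [Finite G] (N M : Subgroup G) [N.Normal], N ≤ M → Pr G M →
      Pr (G ⧸ N) (M.map (QuotientGroup.mk' N)))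
    (hstep : ∀ (G : Type u) [Group G] [Finite G] (M : Subgroup G) (p : ℕ) [Fact p.Prime],
      Pr G M → Group.IsNilpotent M → p ∣ Nat.card M →
      (∀ R : Subgroup G, R ≠ ⊥ → R ≤ M → M ≤ normalizer (R : Set G) →
        normalizer (R : Set G) = M) → HasNormalPComplement p G) :
    ∀ (G : Type u) [Group G] [Finite G] (M : Subgroup G),
      IsCoatom M → Group.IsNilpotent M → Pr G M → Group.IsSolvable G := by
  suffices h : ∀ (n : ℕ) (G : Type u) [Group G] [Finite G], Nat.card G = n →
      ∀ M : Subgroup G, IsCoatom M → Group.IsNilpotent M → Pr G M → Group.IsSolvable G from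
    fun G _ _ M => h _ G rfl M
  intro n
  induction n using Nat.strong_induction_on with
  | _ n ih =>
  intro G _ _ hn M hmax hnil hP
  by_cases hcore : M.normalCore = ⊥
  · rcases eq_or_ne M ⊥ with rfl | hM
    · -- the trivial subgroup is maximal
      rcases subsingleton_or_nontrivial G with _ | _
      · infer_instance
      obtain ⟨g, hg⟩ := exists_ne (1 : G)
      have htop : zpowers g = ⊤ := hmax.2 _ (bot_lt_iff_ne_bot.mpr (by simpa using hg))
      exact Group.isSolvable_of_comm fun a b => by
        obtain ⟨i, rfl⟩ := Subgroup.mem_zpowers_iff.mp (htop ▸ Subgroup.mem_top a : a ∈ zpowers g)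
        obtain ⟨j, rfl⟩ := Subgroup.mem_zpowers_iff.mp (htop ▸ Subgroup.mem_top b : b ∈ zpowers g)
        rw [← zpow_add, add_comm, zpow_add]
    have hN : ∀ R : Subgroup G, R ≠ ⊥ → R ≤ M → M ≤ normalizer (R : Set G) →
        normalizer (R : Set G) = M := by
      intro R hR hRM hMR
      refine ((hmax.le_iff).mp hMR).resolve_left fun h => hR ?_
      have hRn : R.Normal := Subgroup.normalizer_eq_top_iff.mp h
      exact le_bot_iff.mp (hcore ▸ Subgroup.normal_le_normalCore.mpr hRM)
    exact isSolvable_of_coreFree M hmax hnil hN fun p hp hpd =>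
      have := Fact.mk hp
      hstep G M p hP hnil hpd hN
  · set N := M.normalCore
    have hNM : N ≤ M := Subgroup.normalCore_le M
    have hlt : Nat.card (G ⧸ N) < n := by
      rw [← hn, Subgroup.card_eq_card_quotient_mul_card_subgroup N]
      exact lt_mul_of_one_lt_right Nat.card_pos
        ((Subgroup.one_lt_card_iff_ne_bot N).mpr hcore)
    have hmax' : IsCoatom (M.map (QuotientGroup.mk' N)) := by
      constructor
      · intro h
        refine hmax.1 ?_
        have := congrArg (Subgroup.comap (QuotientGroup.mk' N)) h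
        rwa [Subgroup.comap_map_eq, QuotientGroup.ker_mk', sup_eq_left.mpr hNM,
          Subgroup.comap_top] at this
      · intro B hB
        have h1 : M < B.comap (QuotientGroup.mk' N) := by
          refine lt_of_le_of_ne (Subgroup.map_le_iff_le_comap.mp hB.le) fun h => hB.ne ?_
          exact (congrArg (Subgroup.map (QuotientGroup.mk' N)) h).trans
            (Subgroup.map_comap_eq_self_of_surjective (QuotientGroup.mk'_surjective N) B)
        rw [← Subgroup.map_comap_eq_self_of_surjective (QuotientGroup.mk'_surjective N) B,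
          hmax.2 _ h1, Subgroup.map_top_of_surjective _ (QuotientGroup.mk'_surjective N)]
    have := hnil
    have hnil' : Group.IsNilpotent (M.map (QuotientGroup.mk' N)) :=
      Group.nilpotent_of_surjective ((QuotientGroup.mk' N).subgroupMap M)
        ((QuotientGroup.mk' N).subgroupMap_surjective M)
    have hquot := ih _ hlt (G ⧸ N) rfl _ hmax' hnil' (hPr G N M hNM hP)
    have hNnil : Group.IsNilpotent N :=
      Group.nilpotent_of_mulEquiv (Subgroup.subgroupOfEquivOfLe hNM)
    have hNsolv : Group.IsSolvable N := inferInstance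
    exact Group.isSolvable_of_ker_le_range N.subtype (QuotientGroup.mk' N) (by simp)

end CfsgLib.Subnormal
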