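import Mathlib
import Cfsg.Agent.Lib.Subnormal.NilpotentMaximal
import Cfsg.Agent.Lib.Subnormal.FourGroupPair
import Cfsg.Agent.Lib.CoprimeAction.Aut
import Cfsg.Agent.Lib.PGroups.Frattini
import Cfsg.Agent.Lib.PSolvable.FrattiniFacts

/-!
Normal `2`-complements from invariant local data: an operator group of odd order fixes a Sylow
`2`-subgroup `S` of class at most two, and the `2'`-elements of the normalizer of each invariant
normal subgroup of `S` centralize it.
-/

set_option autoImplicit false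

namespace CfsgLib.Subnormal

open Cfsg Subgroup
open scoped commutatorElement

variable {G : Type*} [Group G] [Finite G]

/-- A nilpotent-by-fixed-point step: if `R ◁ G` is a `2`-group centralized by all elements of odd
order and `G / R` has a normal `2`-complement, so has `G`. -/
theorem hasNormalPComplement_two_of_centralized (R : Subgroup G) [R.Normal] (hR : IsPGroup 2 R)
    (hq : HasNormalPComplement 2 (G ⧸ R))
    (hc : ∀ g : G, Odd (orderOf g) → g ∈ centralizer (R : Set G)) : HasNormalPComplement 2 G := by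
  haveI : Fact (Nat.Prime 2) := ⟨Nat.prime_two⟩
  set N : Subgroup G :=
    centralizer (R : Set G) ⊓ (pPrimeCore 2 (G ⧸ R)).comap (QuotientGroup.mk' R) with hN
  haveI : (centralizer (R : Set G)).Normal := Subgroup.normal_centralizer
  haveI : ((pPrimeCore 2 (G ⧸ R)).comap (QuotientGroup.mk' R)).Normal := Subgroup.Normal.comap inferInstance _
  haveI : N.Normal := Subgroup.normal_inf_normal _ _
  obtain ⟨P⟩ : Nonempty (Sylow 2 N) := inferInstance
  have hPR : ∀ t : N, t ∈ (P : Subgroup N) → (t : G) ∈ R := by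
    intro t ht
    refine (QuotientGroup.eq_one_iff _).mp (orderOf_eq_one_iff.mp ?_)
    obtain ⟨e, he⟩ := (IsPGroup.iff_orderOf.mp P.2) ⟨t, ht⟩
    rw [Subgroup.orderOf_mk, ← Subgroup.orderOf_coe] at he
    have h2 : ((t : G) : G ⧸ R) ∈ pPrimeCore 2 (G ⧸ R) := t.2.2
    refine Nat.eq_one_of_dvd_coprimes ?_ (orderOf_map_dvd (QuotientGroup.mk' R) (t : G))
      ((Subgroup.orderOf_dvd_natCard _ h2))
    rw [he]
    exact ((Cores.card_pPrimeCore_coprime 2).symm).pow_left e
  have hP : normalizer ((P : Subgroup N) : Set N) ≤ centralizer ((P : Subgroup N) : Set N) :=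
    fun g _ => Subgroup.mem_centralizer_iff.mpr fun t ht =>
      Subtype.ext (Subgroup.mem_centralizer_iff.mp g.2.1 _ (hPR t ht))
  have hNc : HasNormalPComplement 2 N :=
    ⟨P, _, inferInstance, MonoidHom.ker_transferSylow_isComplement' P hP⟩
  refine NormalPComplement.hasNormalPComplement_of_forall_mem fun g hg => ?_
  have hgN : g ∈ N := ⟨hc g (Nat.coprime_two_right.mp hg),
    NormalPComplement.mem_pPrimeCore_of_coprime hq (hg.coprime_dvd_left (orderOf_map_dvd _ g))⟩
  refine Cores.map_subtype_pPrimeCore_le (N := N) (Subgroup.Normal.isSubnormal inferInstance)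
    ⟨⟨g, hgN⟩, NormalPComplement.mem_pPrimeCore_of_coprime hNc ?_, rfl⟩
  rwa [← orderOf_injective N.subtype N.subtype_injective]

/-- Odd powers: lifts of odd order of elements of odd order. -/
theorem exists_odd_lift {H : Type*} [Group H] {f : G →* H} (hf : Function.Surjective f) {k : H}
    (hk : Odd (orderOf k)) : ∃ w : G, f w = k ∧ Odd (orderOf w) := by
  haveI : Fact (Nat.Prime 2) := ⟨Nat.prime_two⟩
  obtain ⟨g, rfl⟩ := hf k
  obtain ⟨e, he⟩ := NormalPComplement.exists_pow_coprime_orderOf (p := 2) (isOfFinOrder_of_finite g)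
  obtain ⟨m, hm⟩ := exists_pow_eq_self_of_coprime
    (n := 2 ^ e) (x := f g) ((Nat.coprime_two_left.mpr hk).pow_left e)
  refine ⟨(g ^ 2 ^ e) ^ m, by simpa using hm, ?_⟩
  exact (Nat.coprime_two_right.mp he).of_dvd_nat (orderOf_pow_dvd m)

/-- The structure of `N(R)` for a maximal subgroup `R` without local normal `2`-complement. -/
theorem exists_inverted_pair (S : Sylow 2 G)
    (hcl : ∀ x ∈ (S : Subgroup G), ∀ y ∈ (S : Subgroup G), ∀ z ∈ (S : Subgroup G),
      ⁅x, y⁆ * z = z * ⁅x, y⁆)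
    (hS : ∀ w ∈ normalizer ((S : Subgroup G) : Set G), Odd (orderOf w) →
      w ∈ centralizer ((S : Subgroup G) : Set G))
    {R : Subgroup G} (hRS : R ≤ (S : Subgroup G)) (hR1 : R ≠ ⊥)
    (hSR : (S : Subgroup G) ≤ normalizer (R : Set G))
    (hbad : ¬ HasNormalPComplement 2 ↥(normalizer (R : Set G)))
    (hmax : ∀ R' : Subgroup G, R < R' → R' ≤ (S : Subgroup G) →
      (S : Subgroup G) ≤ normalizer (R' : Set G) → HasNormalPComplement 2 ↥(normalizer (R' : Set G))) :
    ∃ w x : G, w ∈ normalizer (R : Set G) ∧ Odd (orderOf w) ∧ w ∉ centralizer (R : Set G) ∧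
      x ∈ (S : Subgroup G) ∧ x ∉ R ∧
      (∀ s ∈ (S : Subgroup G), s ∈ R ∨ x⁻¹ * s ∈ R) ∧
      ∃ c ∈ R, ∀ r ∈ R, x * w * x⁻¹ * w * r * (x * w * x⁻¹ * w)⁻¹ = c * r * c⁻¹ := by
  classical
  haveI : Fact (Nat.Prime 2) := ⟨Nat.prime_two⟩
  set L := normalizer (R : Set G) with hL
  haveI hRn : (R.subgroupOf L).Normal := Subgroup.normal_in_normalizer
  set Rl := R.subgroupOf L with hRl
  have hRlp : IsPGroup 2 Rl := (S.2.to_le hRS).comap_subtype
  set q := QuotientGroup.mk' Rl with hqdef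
  have hqs : Function.Surjective q := QuotientGroup.mk'_surjective Rl
  set T := S.subtype hSR with hTdef
  set Tb := T.mapSurjective hqs with hTb
  have hTbm : ∀ y, y ∈ (Tb : Subgroup (L ⧸ Rl)) ↔ ∃ t : L, (t : G) ∈ (S : Subgroup G) ∧ q t = y := by
    intro y
    rw [hTb, Sylow.coe_mapSurjective, Subgroup.mem_map]
    simp [hTdef, Sylow.coe_subtype, Subgroup.mem_subgroupOf]
  -- class two
  have hclb : ∀ x ∈ (Tb : Subgroup (L ⧸ Rl)), ∀ y ∈ (Tb : Subgroup (L ⧸ Rl)),
      ∀ z ∈ (Tb : Subgroup (L ⧸ Rl)), ⁅x, y⁆ * z = z * ⁅x, y⁆ := by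
    intro x' hx' y' hy' z' hz'
    obtain ⟨x, hx, rfl⟩ := (hTbm _).mp hx'
    obtain ⟨y, hy, rfl⟩ := (hTbm _).mp hy'
    obtain ⟨z, hz, rfl⟩ := (hTbm _).mp hz'
    rw [← map_commutatorElement, ← map_mul, ← map_mul]
    refine congrArg q (Subtype.ext ?_)
    simpa [commutatorElement_def] using hcl _ hx _ hy _ hz
  -- subgroups above `R`
  have habove : ∀ T' : Subgroup (L ⧸ Rl), T' ≤ (Tb : Subgroup (L ⧸ Rl)) → T' ≠ ⊥ →
      (Tb : Subgroup (L ⧸ Rl)) ≤ normalizer (T' : Set (L ⧸ Rl)) →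
      R < (T'.comap q).map L.subtype ∧ (T'.comap q).map L.subtype ≤ (S : Subgroup G) ∧
      (S : Subgroup G) ≤ normalizer (((T'.comap q).map L.subtype : Subgroup G) : Set G) ∧
      normalizer ((T'.comap q : Subgroup L) : Set L) = (normalizer (T' : Set (L ⧸ Rl))).comap q := by
    intro T' hT' hT'1 hn
    have hcomap : normalizer ((T'.comap q : Subgroup L) : Set L) =
        (normalizer (T' : Set (L ⧸ Rl))).comap q :=
      (Subgroup.comap_normalizer_eq_of_surjective T' hqs).symm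
    have hle : R ≤ (T'.comap q).map L.subtype := by
      intro r hr
      refine ⟨⟨r, Subgroup.le_normalizer hr⟩, ?_, rfl⟩
      refine Subgroup.mem_comap.mpr ?_
      rw [hqdef, QuotientGroup.mk'_apply, (QuotientGroup.eq_one_iff _).mpr (show _ ∈ Rl from hr)]
      exact one_mem _
    refine ⟨lt_of_le_of_ne hle fun h => hT'1 ?_, ?_, ?_, hcomap⟩
    · refine (Subgroup.eq_bot_iff_forall _).mpr fun y hy => ?_
      obtain ⟨g, rfl⟩ := hqs y
      refine (QuotientGroup.eq_one_iff g).mpr (show (g : G) ∈ R from ?_)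
      rw [h]; exact ⟨g, hy, rfl⟩
    · rintro _ ⟨g, hg, rfl⟩
      obtain ⟨t, ht, htg⟩ := (hTbm _).mp (hT' hg)
      have h1 : ((t⁻¹ * g : L) : G) ∈ R := (QuotientGroup.eq (s := Rl)).mp htg
      have h2 := (S : Subgroup G).mul_mem ht (hRS h1)
      simpa using h2
    · intro s hs
      refine Subgroup.le_normalizer_map L.subtype ⟨⟨s, hSR hs⟩, ?_, rfl⟩
      rw [hcomap]
      exact hn ((hTbm _).mpr ⟨⟨s, hSR hs⟩, hs, rfl⟩)
  -- `L / R` has a normal `2`-complement
  have hK : HasNormalPComplement 2 (L ⧸ Rl) := by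
    refine hasNormalPComplement_of_classTwo Tb hclb fun T' hT' hT'1 hn => ?_
    obtain ⟨h1, h2, h3, h4⟩ := habove T' hT' hT'1 hn
    set R' := (T'.comap q).map L.subtype
    set X := normalizer ((T'.comap q : Subgroup L) : Set L)
    have hX : HasNormalPComplement 2 X := by
      refine NormalPComplement.hasNormalPComplement_of_injective
        ((L.subtype.comp X.subtype).codRestrict (normalizer (R' : Set G))
          fun g => Subgroup.le_normalizer_map L.subtype ⟨(g : L), g.2, rfl⟩) ?_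
        (hmax R' h1 h2 h3)
      intro a b hab
      exact Subtype.ext (Subtype.ext (congrArg (fun u : normalizer (R' : Set G) => (u : G)) hab))
    rw [h4] at hX
    exact NormalPComplement.hasNormalPComplement_of_surjective (q.subgroupComap _)
      (MonoidHom.subgroupComap_surjective_of_surjective q _ hqs) hX
  set K := pPrimeCore 2 (L ⧸ Rl) with hKdef
  have hKodd : ∀ k ∈ K, Odd (orderOf k) := fun k hk => Nat.coprime_two_right.mp
    ((Cores.card_pPrimeCore_coprime 2).coprime_dvd_left (Subgroup.orderOf_dvd_natCard K hk))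
  -- the action on `R`
  set ρ : L →* MulAut Rl := MulAut.conjNormal with hρdef
  have hρ : ∀ (g : L), ρ g = 1 ↔ (g : G) ∈ centralizer (R : Set G) := by
    intro g
    rw [Subgroup.mem_centralizer_iff]
    constructor
    · intro h r hr
      have h1 := congrArg (fun t : Rl => ((t : L) : G))
        (DFunLike.congr_fun h ⟨⟨r, Subgroup.le_normalizer hr⟩, hr⟩)
      simp only [hρdef, MulAut.conjNormal_apply, MulAut.one_apply, Subgroup.coe_mul,
        Subgroup.coe_inv] at h1
      exact (mul_inv_eq_iff_eq_mul.mp h1).symm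
    · intro h
      ext r
      simp only [hρdef, MulAut.conjNormal_apply, MulAut.one_apply, Subgroup.coe_mul,
        Subgroup.coe_inv]
      exact mul_inv_eq_iff_eq_mul.mpr (h _ r.2).symm
  set C := ρ.ker.map q with hC
  haveI : C.Normal := Subgroup.Normal.map inferInstance q hqs
  -- lifts of elements outside `C` do not centralize `R`
  have hout : ∀ (g : L), q g ∉ C → (g : G) ∉ centralizer (R : Set G) :=
    fun g hg h => hg ⟨g, (hρ g).mpr h, rfl⟩
  have hoddL : ∀ g : L, Odd (orderOf g) → Odd (orderOf (g : G)) := fun g h => by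
    rwa [Subgroup.orderOf_coe]
  obtain ⟨k₀, hk₀, hk₀C⟩ : ∃ k ∈ K, k ∉ C := by
    by_contra hall
    push Not at hall
    refine hbad (hasNormalPComplement_two_of_centralized Rl hRlp hK fun g hg => ?_)
    obtain ⟨t, ht, htg⟩ := hall (q g) (NormalPComplement.mem_pPrimeCore_of_coprime hK
      ((Nat.coprime_two_right.mpr hg).coprime_dvd_left (orderOf_map_dvd q g)))
    have hr : t⁻¹ * g ∈ Rl := QuotientGroup.eq.mp htg
    have hρg : ρ g = ρ (t⁻¹ * g) := by
      rw [map_mul, map_inv, MonoidHom.mem_ker.mp ht, inv_one, one_mul]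
    obtain ⟨e, he⟩ := hRlp.map ρ ⟨ρ g, ⟨_, hr, hρg.symm⟩⟩
    have h1 : ρ g = 1 := orderOf_eq_one_iff.mp (Nat.eq_one_of_dvd_coprimes
      ((Nat.coprime_two_left.mpr hg).pow_left e)
      (orderOf_dvd_of_pow_eq_one (by simpa using congrArg Subtype.val he)) (orderOf_map_dvd ρ g))
    refine Subgroup.mem_centralizer_iff.mpr fun r hr' => Subtype.ext ?_
    exact Subgroup.mem_centralizer_iff.mp ((hρ g).mp h1) (r : G) hr'
  -- central elements of `Tb` fix nothing outside `C`
  have hfix : ∀ y ∈ (Tb : Subgroup (L ⧸ Rl)), y ≠ 1 →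
      (∀ s ∈ (Tb : Subgroup (L ⧸ Rl)), s * y = y * s) →
      ∀ k ∈ K, y * k = k * y → k ∈ C := by
    intro y hy hy1 hyc k hk hyk
    by_contra hkC
    obtain ⟨w, rfl, hw⟩ := exists_odd_lift hqs (hKodd k hk)
    have hnorm : ∀ s : L ⧸ Rl, s * y = y * s → s ∈ normalizer ((zpowers y : Subgroup _) : Set _) :=
      fun s hs => Subgroup.centralizer_le_normalizer _ (Subgroup.mem_centralizer_iff.mpr
        fun z hz => by
          obtain ⟨i, rfl⟩ := Subgroup.mem_zpowers_iff.mp hz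
          exact (Commute.zpow_left (show Commute y s from hs.symm) i).eq)
    obtain ⟨h1, h2, h3, h4⟩ := habove (zpowers y) (Subgroup.zpowers_le.mpr hy)
      (by simpa using hy1) (fun s hs => hnorm s (hyc s hs))
    refine hout w hkC (Subgroup.centralizer_le h1.le ?_)
    refine NormalPComplement.mem_centralizer_of_normalizer (S.2.to_le h2) (hmax _ h1 h2 h3) ?_
      (Nat.coprime_two_right.mpr (hoddL w hw))
    refine Subgroup.le_normalizer_map L.subtype ⟨w, ?_, rfl⟩
    rw [h4]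
    exact hnorm _ hyk.symm
  -- `Tb` is non-trivial
  have hTb1 : (Tb : Subgroup (L ⧸ Rl)) ≠ ⊥ := by
    intro h
    have hSeq : (S : Subgroup G) = R := by
      refine le_antisymm (fun s hs => ?_) hRS
      exact (QuotientGroup.eq_one_iff (⟨s, hSR hs⟩ : L)).mp
        (Subgroup.mem_bot.mp (h ▸ (hTbm _).mpr ⟨⟨s, hSR hs⟩, hs, rfl⟩))
    obtain ⟨w, rfl, hw⟩ := exists_odd_lift hqs (hKodd k₀ hk₀)
    have h1 := hS w (by rw [hSeq]; exact w.2) (hoddL w hw)
    rw [hSeq] at h1
    exact hout w hk₀C h1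
  -- a central involution
  have hcen : ∀ E : Subgroup (Tb : Subgroup (L ⧸ Rl)), E.Normal → E ≠ ⊥ →
      ∃ e ∈ E, e ≠ 1 ∧ e * e = 1 ∧ ∀ s : (Tb : Subgroup (L ⧸ Rl)), s * e = e * s := by
    intro E hE hE1
    haveI : Nontrivial E := (Subgroup.nontrivial_iff_ne_bot E).mpr hE1
    haveI : Group.IsNilpotent (Tb : Subgroup (L ⧸ Rl)) := Tb.2.isNilpotent
    have hne := PSolvable.inf_center_ne_bot (N := E) hE1
    have hp : IsPGroup 2 (E ⊓ center (Tb : Subgroup (L ⧸ Rl)) : Subgroup _) :=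
      Tb.2.to_subgroup _
    haveI : Nontrivial (E ⊓ center (Tb : Subgroup (L ⧸ Rl)) : Subgroup _) :=
      (Subgroup.nontrivial_iff_ne_bot _).mpr hne
    obtain ⟨n, hn, hcard⟩ := hp.nontrivial_iff_card.mp inferInstance
    obtain ⟨e, he⟩ := exists_prime_orderOf_dvd_card' 2 (hcard ▸ dvd_pow_self 2 hn.ne')
    have he2 : (e : (Tb : Subgroup (L ⧸ Rl))) * e = 1 := by
      have := congrArg Subtype.val (he ▸ pow_orderOf_eq_one e)
      simpa [pow_two] using this
    exact ⟨e, e.2.1, fun h => by rw [show e = 1 from Subtype.ext h, orderOf_one] at he; omega, he2,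
      fun s => Subgroup.mem_center_iff.mp e.2.2 s⟩
  obtain ⟨xs, -, hxs1, hxs2, hxsc⟩ := hcen ⊤ inferInstance (by
    haveI : Nontrivial (Tb : Subgroup (L ⧸ Rl)) := (Subgroup.nontrivial_iff_ne_bot _).mpr hTb1
    exact top_ne_bot)
  -- central involutions invert `K` modulo `C`
  set π := QuotientGroup.mk' C with hπ
  have hinvert : ∀ y : (Tb : Subgroup (L ⧸ Rl)), y ≠ 1 → y * y = 1 → (∀ s, s * y = y * s) →
      ∀ k ∈ K, π ((y : L ⧸ Rl) * k * (y : L ⧸ Rl)⁻¹) = (π k)⁻¹ := by
    intro y hy1 hy2 hyc k hk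
    set Y : L ⧸ Rl := (y : L ⧸ Rl)
    have hYY : Y⁻¹ = Y := inv_eq_of_mul_eq_one_left (congrArg Subtype.val hy2)
    set d := k⁻¹ * (Y * k * Y⁻¹) with hd
    have hdK : d ∈ K := mul_mem (inv_mem hk) ((inferInstance : K.Normal).conj_mem k hk Y)
    have hYd : Y * d * Y⁻¹ = d⁻¹ := by
      calc Y * d * Y⁻¹ = (Y * k⁻¹ * Y⁻¹) * (Y * Y * k * (Y * Y)⁻¹) := by rw [hd]; group
        _ = d⁻¹ := by
          rw [show Y * Y = 1 from congrArg Subtype.val hy2, hd]; group
    obtain ⟨j, hj⟩ := hKodd d hdK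
    set e := d ^ (j + 1) with he
    have hee : e * e = d := by
      rw [he, ← pow_add, show j + 1 + (j + 1) = orderOf d + 1 by omega, pow_succ,
        pow_orderOf_eq_one, one_mul]
    have hYe : Y * e * Y⁻¹ = e⁻¹ := by rw [he, ← conj_pow, hYd, inv_pow]
    have hfe : k * e ∈ C := by
      refine hfix Y y.2 (fun h => hy1 (Subtype.ext h))
        (fun s hs => congrArg Subtype.val (hyc ⟨s, hs⟩)) _
        (mul_mem hk (pow_mem hdK _)) ?_
      refine mul_inv_eq_iff_eq_mul.mp ?_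
      calc Y * (k * e) * Y⁻¹ = (Y * k * Y⁻¹) * (Y * e * Y⁻¹) := by group
        _ = k * d * e⁻¹ := by rw [hYe, hd]; group
        _ = k * e := by rw [← hee]; group
    have hπk : π k = (π e)⁻¹ := eq_inv_of_mul_eq_one_left (by
      rw [← map_mul]; exact (QuotientGroup.eq_one_iff _).mpr hfe)
    rw [show Y * k * Y⁻¹ = k * d by rw [hd]; group, ← hee, map_mul, map_mul, hπk]
    group
  -- uniqueness of the central involution
  have huniq : ∀ y : (Tb : Subgroup (L ⧸ Rl)), y ≠ 1 → y * y = 1 → (∀ s, s * y = y * s) →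
      y = xs := by
    intro y hy1 hy2 hyc
    by_contra hne
    have h1 : y * xs ≠ 1 := fun h => hne (mul_right_cancel (h.trans hxs2.symm))
    have h2 : y * xs * (y * xs) = 1 := by
      rw [show y * xs * (y * xs) = y * (xs * y) * xs by group, ← hxsc y, ← mul_assoc, hy2, one_mul,
        hxs2]
    have h3 : ∀ s, s * (y * xs) = y * xs * s := fun s => by
      rw [← mul_assoc, hyc s, mul_assoc, hxsc s, ← mul_assoc]
    have e1 := hinvert _ h1 h2 h3 k₀ hk₀
    have hxk : (xs : L ⧸ Rl) * k₀ * (xs : L ⧸ Rl)⁻¹ ∈ K :=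
      (inferInstance : K.Normal).conj_mem k₀ hk₀ _
    have e2 := hinvert y hy1 hy2 hyc _ hxk
    rw [hinvert xs hxs1 hxs2 hxsc k₀ hk₀, inv_inv] at e2
    rw [show ((y * xs : (Tb : Subgroup (L ⧸ Rl))) : L ⧸ Rl) * k₀ *
      ((y * xs : (Tb : Subgroup (L ⧸ Rl))) : L ⧸ Rl)⁻¹ =
      (y : L ⧸ Rl) * ((xs : L ⧸ Rl) * k₀ * (xs : L ⧸ Rl)⁻¹) * (y : L ⧸ Rl)⁻¹ by
        rw [Subgroup.coe_mul]; group, e2] at e1
    refine hk₀C ((QuotientGroup.eq_one_iff k₀).mp (orderOf_eq_one_iff.mp ?_))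
    refine Nat.eq_one_of_dvd_coprimes (Nat.coprime_two_left.mpr (hKodd k₀ hk₀))
      (orderOf_dvd_of_pow_eq_one ?_) (orderOf_map_dvd π k₀)
    rw [pow_two]; exact eq_inv_iff_mul_eq_one.mp e1
  -- squares in `Tb` are trivial
  have hΦ : ∀ a b : Rl, ⁅a, b⁆ ∈ frattini Rl := fun a b =>
    PGroups.commutator_le_frattini hRlp
      (Subgroup.commutator_mem_commutator (Subgroup.mem_top a) (Subgroup.mem_top b))
  let A₁ : Subgroup (MulAut Rl) :=
    { carrier := {a | ∀ r : Rl, r⁻¹ * a r ∈ frattini Rl}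
      one_mem' := fun r => by simp
      mul_mem' := fun {a b} ha hb r => by
        have := mul_mem (hb r) (ha (b r))
        simpa [mul_assoc, MulAut.mul_apply] using this
      inv_mem' := fun {a} ha r => by
        have := inv_mem (ha (a⁻¹ r))
        simpa [MulAut.apply_inv_self] using this }
  have hA₁n : A₁.Normal := ⟨fun a ha b r => by
    have h := ha (b⁻¹ r)
    have h' : b ((b⁻¹ r)⁻¹ * a (b⁻¹ r)) ∈ frattini Rl :=
      ((Subgroup.characteristic_iff_comap_eq.mp inferInstance b).ge h :)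
    simpa [map_mul, MulAut.mul_apply, MulAut.apply_inv_self] using h'⟩
  have hsq : ∀ z ∈ (Tb : Subgroup (L ⧸ Rl)), ∀ k ∈ K, π (z * z * k * (z * z)⁻¹) = π k := by
    intro z hz k hk
    obtain ⟨t, ht, rfl⟩ := (hTbm z).mp hz
    obtain ⟨g₀, rfl⟩ := hqs k
    set g := t * t * g₀ * (t * t)⁻¹ * g₀⁻¹ with hg
    have ht2 : ρ (t * t) ∈ A₁ := by
      intro r
      have hrS : ((r : L) : G) ∈ (S : Subgroup G) := hRS r.2
      set a : Rl := ⟨t * (r : L) * t⁻¹ * (r : L)⁻¹,
        mul_mem (hRn.conj_mem _ r.2 t) (inv_mem r.2)⟩ with ha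
      have hco : t * (a : L) = (a : L) * t := Subtype.ext (by
        simpa [ha, commutatorElement_def] using (hcl _ ht _ hrS _ ht).symm)
      have hcr : (r : L) * (a : L) = (a : L) * (r : L) := Subtype.ext (by
        simpa [ha, commutatorElement_def] using (hcl _ ht _ hrS _ hrS).symm)
      have e : r⁻¹ * ρ (t * t) r = a ^ 2 := by
        refine Subtype.ext ?_
        simp only [Subgroup.coe_mul, Subgroup.coe_inv, hρdef, MulAut.conjNormal_apply, pow_two]
        calc (r : L)⁻¹ * (t * t * r * (t * t)⁻¹)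
            = (r : L)⁻¹ * (t * ((t * r * t⁻¹ * (r : L)⁻¹) * r) * t⁻¹) := by group
          _ = (r : L)⁻¹ * (t * ((a : L) * r) * t⁻¹) := rfl
          _ = (r : L)⁻¹ * ((a : L) * (t * r * t⁻¹)) := by rw [← mul_assoc t, hco]; group
          _ = (r : L)⁻¹ * ((a : L) * ((a : L) * r)) := by
            rw [show t * (r : L) * t⁻¹ = (a : L) * r by simp [ha]]
          _ = (r : L)⁻¹ * ((r : L) * ((a : L) * (a : L))) := by
            rw [show (a : L) * ((a : L) * r) = (r : L) * ((a : L) * a) by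
              rw [← hcr, ← mul_assoc, ← hcr, mul_assoc]]
          _ = (a : L) * (a : L) := by group
      rw [e]
      exact PGroups.pow_mem_frattini hRlp a
    have hgA : ρ g ∈ A₁ := by
      rw [show g = t * t * (g₀ * (t * t)⁻¹ * g₀⁻¹) by rw [hg]; group, map_mul]
      refine mul_mem ht2 ?_
      rw [map_mul, map_mul, map_inv, map_inv]
      exact hA₁n.conj_mem _ (inv_mem ht2) _
    have hqg : q g ∈ K := by
      rw [hg, map_mul, map_mul, map_mul, map_inv, map_inv]
      exact mul_mem ((inferInstance : K.Normal).conj_mem _ hk _) (inv_mem hk)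
    obtain ⟨w, hwq, hw⟩ := exists_odd_lift hqs (hKodd _ hqg)
    have hwg : ρ w ∈ A₁ := by
      have h1 : g⁻¹ * w ∈ Rl := QuotientGroup.eq.mp hwq.symm
      rw [show w = g * (g⁻¹ * w) by group, map_mul]
      refine mul_mem hgA fun r => ?_
      set n : Rl := ⟨_, h1⟩
      have : r⁻¹ * ρ (g⁻¹ * w) r = ⁅r⁻¹, n⁆ := by
        refine Subtype.ext ?_
        simp only [Subgroup.coe_mul, Subgroup.coe_inv, hρdef, MulAut.conjNormal_apply,
          commutatorElement_def, n]
        group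
      rw [this]; exact hΦ _ _
    have hw1 : ρ w = 1 := by
      refine CoprimeAction.aut_eq_one_of_frattini ?_ hwg
      obtain ⟨l, hl⟩ := IsPGroup.iff_card.mp (hRlp.to_subgroup (frattini Rl))
      rw [hl]
      exact ((Nat.coprime_two_right.mpr hw).coprime_dvd_left (orderOf_map_dvd ρ w)).pow_right l
    have hmem : q g ∈ C := hwq ▸ ⟨w, MonoidHom.mem_ker.mpr hw1, rfl⟩
    refine mul_inv_eq_one.mp ?_
    rw [← map_inv, ← map_mul]
    exact (QuotientGroup.eq_one_iff _).mpr (by simpa [hg] using hmem)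
  have hexp : ∀ z : (Tb : Subgroup (L ⧸ Rl)), z * z = 1 := by
    intro z
    let E : Subgroup (Tb : Subgroup (L ⧸ Rl)) :=
      { carrier := {s | ∀ k ∈ K, π ((s : L ⧸ Rl) * k * (s : L ⧸ Rl)⁻¹) = π k}
        one_mem' := fun k _ => by simp
        mul_mem' := fun {a b} ha hb k hk => by
          have := ha _ ((inferInstance : K.Normal).conj_mem k hk (b : L ⧸ Rl))
          rw [hb k hk] at this
          rw [Subgroup.coe_mul, ← this]
          congr 1
          group
        inv_mem' := fun {a} ha k hk => by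
          have := ha _ ((inferInstance : K.Normal).conj_mem k hk (a : L ⧸ Rl)⁻¹)
          rw [Subgroup.coe_inv, ← this]
          congr 1
          group }
    have hE : E = ⊥ := by
      by_contra hE1
      have hEn : E.Normal := ⟨fun a ha b k hk => by
        have h := ha _ ((inferInstance : K.Normal).conj_mem k hk (b : L ⧸ Rl)⁻¹)
        rw [inv_inv] at h
        have h' := congrArg (fun u => π (b : L ⧸ Rl) * u * (π (b : L ⧸ Rl))⁻¹) h
        simp only [map_mul, map_inv] at h' ⊢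
        simp only [Subgroup.coe_mul, Subgroup.coe_inv, map_mul, map_inv, mul_inv_rev, inv_inv,
          mul_assoc] at h' ⊢
        simpa using h'⟩
      obtain ⟨e, heE, he1, he2, hec⟩ := hcen E hEn hE1
      have h1 := hinvert e he1 he2 hec k₀ hk₀
      rw [heE k₀ hk₀] at h1
      refine hk₀C ((QuotientGroup.eq_one_iff k₀).mp (orderOf_eq_one_iff.mp ?_))
      refine Nat.eq_one_of_dvd_coprimes (Nat.coprime_two_left.mpr (hKodd k₀ hk₀))
        (orderOf_dvd_of_pow_eq_one ?_) (orderOf_map_dvd π k₀)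
      rw [pow_two]; exact eq_inv_iff_mul_eq_one.mp h1
    have : z * z ∈ E := fun k hk => by
      rw [Subgroup.coe_mul]; exact hsq _ z.2 k hk
    rwa [hE, Subgroup.mem_bot] at this
  have hall : ∀ y : (Tb : Subgroup (L ⧸ Rl)), y = 1 ∨ y = xs := by
    intro y
    by_cases hy : y = 1
    · exact Or.inl hy
    refine Or.inr (huniq y hy (hexp y) fun s => ?_)
    have h := hexp (s * y)
    calc s * y = (s * y)⁻¹ := eq_inv_of_mul_eq_one_left h
      _ = y⁻¹ * s⁻¹ := mul_inv_rev s y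
      _ = y * s := by
        rw [← eq_inv_of_mul_eq_one_left (hexp y), ← eq_inv_of_mul_eq_one_left (hexp s)]
  obtain ⟨x, hxS, hxq⟩ := (hTbm _).mp xs.2
  obtain ⟨w, hwq, hw⟩ := exists_odd_lift hqs (hKodd k₀ hk₀)
  refine ⟨w, x, w.2, hoddL w hw, hout w (hwq ▸ hk₀C), hxS, ?_, ?_, ?_⟩
  · intro hxR
    refine hxs1 (Subtype.ext ?_)
    rw [← hxq, Subgroup.coe_one]
    exact (QuotientGroup.eq_one_iff x).mpr hxR
  · intro s hs
    rcases hall ⟨q ⟨s, hSR hs⟩, (hTbm _).mpr ⟨⟨s, hSR hs⟩, hs, rfl⟩⟩ with h | h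
    · exact Or.inl ((QuotientGroup.eq_one_iff (⟨s, hSR hs⟩ : L)).mp (congrArg Subtype.val h))
    · refine Or.inr ?_
      have h1 : q ⟨s, hSR hs⟩ = q x := (congrArg Subtype.val h).trans hxq.symm
      exact (show ((x⁻¹ * ⟨s, hSR hs⟩ : L) : G) ∈ R from (QuotientGroup.eq (s := Rl)).mp h1.symm)
  · have h := hinvert xs hxs1 hxs2 hxsc k₀ hk₀
    rw [← hxq, ← hwq] at h
    have h' : q (x * w * x⁻¹ * w) ∈ C := by
      refine (QuotientGroup.eq_one_iff _).mp ?_
      change π (q (x * w * x⁻¹ * w)) = 1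
      rw [map_mul q, map_mul π, map_mul q, map_mul q, map_inv q, h, inv_mul_cancel]
    obtain ⟨t, ht, htq⟩ := h'
    set n := t⁻¹ * (x * w * x⁻¹ * w) with hn
    have hnR : n ∈ Rl := QuotientGroup.eq.mp htq
    refine ⟨(n : G), hnR, fun r hr => ?_⟩
    have ht' := (hρ t).mp (MonoidHom.mem_ker.mp ht)
    have hnr : (n : G) * r * (n : G)⁻¹ ∈ R := R.mul_mem (R.mul_mem hnR hr) (R.inv_mem hnR)
    have hcomm := Subgroup.mem_centralizer_iff.mp ht' _ hnr
    calc (x : G) * w * (x : G)⁻¹ * w * r * ((x : G) * w * (x : G)⁻¹ * w)⁻¹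
        = (t : G) * ((n : G) * r * (n : G)⁻¹) * (t : G)⁻¹ := by
          rw [hn]; simp only [Subgroup.coe_mul, Subgroup.coe_inv]; group
      _ = (n : G) * r * (n : G)⁻¹ := by rw [← hcomm, mul_inv_cancel_right]

/-- Normal `2`-complement for an `A`-invariant Sylow `2`-subgroup of class at most two, `|A|` odd. -/
theorem hasNormalPComplement_two_of_invariant {A : Type*} [Group A] [Finite A]
    (φ : A →* MulAut G) (hA : Odd (Nat.card A)) (S : Sylow 2 G)
    (hSA : ∀ a : A, ∀ s ∈ (S : Subgroup G), φ a s ∈ (S : Subgroup G))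
    (hcl : ∀ x ∈ (S : Subgroup G), ∀ y ∈ (S : Subgroup G), ∀ z ∈ (S : Subgroup G),
      ⁅x, y⁆ * z = z * ⁅x, y⁆)
    (hgood : ∀ R : Subgroup G, R ≤ (S : Subgroup G) → R ≠ ⊥ →
      (S : Subgroup G) ≤ normalizer (R : Set G) → (∀ a : A, ∀ r ∈ R, φ a r ∈ R) →
      ∀ w ∈ normalizer (R : Set G), Odd (orderOf w) → w ∈ centralizer (R : Set G)) :
    HasNormalPComplement 2 G := by
  classical
  haveI : Fact (Nat.Prime 2) := ⟨Nat.prime_two⟩
  refine hasNormalPComplement_of_classTwo S hcl fun R₀ h1 h2 h3 => ?_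
  by_contra hbad₀
  obtain ⟨R, hR⟩ := Set.Finite.exists_maximal (Set.toFinite {R : Subgroup G | R ≤ (S : Subgroup G) ∧
      R ≠ ⊥ ∧ (S : Subgroup G) ≤ normalizer (R : Set G) ∧
      ¬ HasNormalPComplement 2 ↥(normalizer (R : Set G))}) ⟨R₀, h1, h2, h3, hbad₀⟩
  obtain ⟨hRS, hR1, hSR, hbad⟩ := hR.prop
  have hS1 : (S : Subgroup G) ≠ ⊥ := fun h => hR1 (le_bot_iff.mp (h ▸ hRS))
  obtain ⟨w, x, hw, hwo, hwc, hx, hxR, hcos, hu⟩ := exists_inverted_pair S hcl
    (hgood _ le_rfl hS1 Subgroup.le_normalizer hSA) hRS hR1 hSR hbad (fun R' hlt hle hn => by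
      by_contra hb
      exact hlt.ne (le_antisymm hlt.le (hR.le_of_ge
        ⟨hle, fun h => hR1 (le_bot_iff.mp (h ▸ hlt.le)), hn, hb⟩ hlt.le)))
  obtain ⟨R', e1, e2, e3, e4, e5, e6⟩ := exists_invariant_of_four φ hA S.2 hSA hcl hRS hSR hw hwo
    hwc hx hxR hcos hu
  exact e6 (hgood R' e2 e1 e3 e4 w e5 hwo)

end CfsgLib.Subnormal
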