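/-
A finite group acting on two abelian groups of different prime-power orders, with no proper fixed
points outside fixed subgroups, has order divisible by at most one of the two primes.
-/
import Mathlib
import Cfsg.Agent.Lib.TwoGroups.RankOne

set_option autoImplicit false
set_option linter.style.haveILetI false

namespace CfsgLib.Subnormal

universe u v

/-- An action of `T` on the abelian `s`-group `V` fixing `Z₀ < V` pointwise and nothing else. -/
structure SemiregularAct (T : Type u) [Group T] (V : Type v) [CommGroup V] (s : ℕ) where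
  act : T →* MulAut V
  Z₀ : Subgroup V
  pgroup : IsPGroup s V
  ne_top : Z₀ ≠ ⊤
  fixes : ∀ t, ∀ z ∈ Z₀, act t z = z
  free : ∀ t, t ≠ 1 → ∀ v, act t v = v → v ∈ Z₀

variable {T : Type u} [Group T] {V : Type v} [CommGroup V] {s : ℕ}

theorem mem_of_pow_mem {W : Type v} [Group W] {p n : ℕ} (hW : IsPGroup p W) {H : Subgroup W}
    {v : W} (hv : v ^ n ∈ H) (hn : n.Coprime p) : v ∈ H := by
  obtain ⟨k, hk⟩ := hW v
  obtain ⟨a, b, hab⟩ := (Nat.isCoprime_iff_coprime.mpr (hn.pow_right k))
  rw [← zpow_one v, ← hab, zpow_add, mul_comm a, mul_comm b, zpow_mul, zpow_mul, zpow_natCast,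
    zpow_natCast, hk, one_zpow, mul_one]
  exact zpow_mem hv a

namespace SemiregularAct

variable (A : SemiregularAct T V s)
include A

theorem act_mul (t t' : T) (v : V) : A.act (t * t') v = A.act t (A.act t' v) := by
  rw [map_mul, MulAut.mul_apply]

theorem prod_fixed {t : T} {n : ℕ} (ht : t ^ n = 1) (v : V) :
    A.act t (∏ i ∈ Finset.range n, A.act (t ^ i) v) = ∏ i ∈ Finset.range n, A.act (t ^ i) v := by
  rw [map_prod]
  have h1 : ∀ i, A.act t (A.act (t ^ i) v) = A.act (t ^ (i + 1)) v := fun i => by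
    rw [← A.act_mul, ← pow_succ']
  simp only [h1]
  have h2 := Finset.prod_range_succ' (fun i => A.act (t ^ i) v) n
  rw [Finset.prod_range_succ, ht, pow_zero] at h2
  exact mul_right_cancel h2.symm

theorem orbit_mem {t : T} {n : ℕ} (h1 : t ≠ 1) (ht : t ^ n = 1) (v : V) :
    ∏ i ∈ Finset.range n, A.act (t ^ i) v ∈ A.Z₀ :=
  A.free t h1 _ (A.prod_fixed ht v)

/-- The key computation: a family `t k = e ^ k * f` of elements of order dividing `l`, whose `i`-th
powers are `(e i) ^ k * f ^ i`, forces `n` to be a multiple of `s`. -/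
theorem not_coprime_of_family {n l : ℕ} (hl : 1 ≤ l) (e g : ℕ → T) (t : ℕ → T)
    (ht : ∀ k, t k ≠ 1) (htl : ∀ k, t k ^ l = 1)
    (hti : ∀ k i, 0 < i → i < l → t k ^ i = e i ^ k * g i)
    (he : ∀ i, 0 < i → i < l → e i ≠ 1) (hen : ∀ i, 0 < i → i < l → e i ^ n = 1) :
    ¬ n.Coprime s := by
  intro hns
  refine A.ne_top (eq_top_iff.mpr fun v _ => mem_of_pow_mem A.pgroup ?_ hns)
  obtain ⟨l, rfl⟩ : ∃ l', l = l' + 1 := ⟨l - 1, by omega⟩
  have hall : ∏ k ∈ Finset.range n, ∏ i ∈ Finset.range (l + 1), A.act (t k ^ i) v ∈ A.Z₀ :=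
    Subgroup.prod_mem _ fun k _ => A.orbit_mem (ht k) (htl k) v
  have hrest : ∏ i ∈ Finset.range l, ∏ k ∈ Finset.range n, A.act (t k ^ (i + 1)) v ∈ A.Z₀ := by
    refine Subgroup.prod_mem _ fun i hi => ?_
    have hi' := Finset.mem_range.mp hi
    have : ∀ k, A.act (t k ^ (i + 1)) v = A.act (e (i + 1) ^ k) (A.act (g (i + 1)) v) := fun k => by
      rw [hti k (i + 1) (by omega) (by omega), A.act_mul]
    simp only [this]
    exact A.orbit_mem (he _ (by omega) (by omega)) (hen _ (by omega) (by omega)) _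
  simp only [Finset.prod_range_succ' _ l, Finset.prod_mul_distrib, pow_zero, map_one,
    MulAut.one_apply, Finset.prod_const, Finset.card_range] at hall
  rw [Finset.prod_comm] at hall
  exact (Subgroup.mul_mem_cancel_left _ hrest).mp hall

/-- Commuting elements of prime order prime to `s` generate a cyclic group. -/
theorem mem_zpowers_of_commute [Finite T] {l : ℕ} (hl : l.Prime) (hls : l.Coprime s) {a b : T}
    (ha : orderOf a = l) (hb : orderOf b = l) (hab : Commute a b) : b ∈ Subgroup.zpowers a := by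
  by_contra hba
  refine A.not_coprime_of_family (l := l) hl.one_lt.le (fun i => a ^ i) (fun i => b ^ i)
    (fun k => a ^ k * b) ?_ ?_ ?_ ?_ ?_ hls
  · intro k h
    exact hba (by rw [eq_inv_of_mul_eq_one_right h]; exact inv_mem (Subgroup.npow_mem_zpowers a k))
  · intro k
    rw [(hab.pow_left k).mul_pow, ← pow_mul, mul_comm, pow_mul, ← ha, pow_orderOf_eq_one, one_pow,
      ha, ← hb, pow_orderOf_eq_one, mul_one]
  · intro k i _ _
    rw [(hab.pow_left k).mul_pow, ← pow_mul, ← pow_mul, mul_comm k]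
  · intro i hi hil h
    exact Nat.not_dvd_of_pos_of_lt hi hil (ha ▸ orderOf_dvd_of_pow_eq_one h)
  · intro i _ _
    rw [← pow_mul, mul_comm, pow_mul, ← ha, pow_orderOf_eq_one, one_pow]

/-- An element of coprime order commuting with a nontrivial `s`-element is trivial. -/
theorem eq_one_of_commute [Finite V] [hs : Fact s.Prime] {t u : T} {j : ℕ} (ht : t ^ s ^ j = 1)
    (ht1 : t ≠ 1) (hu : (orderOf u).Coprime s) (htu : Commute t u) : u = 1 := by
  -- `t` fixes a coset of `Z₀`
  have hmap : ∀ x, A.Z₀.map ((A.act x : V ≃* V) : V →* V) = A.Z₀ := fun x => by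
    ext z
    constructor
    · rintro ⟨w, hw, rfl⟩
      exact (A.fixes x w hw).symm ▸ hw
    · exact fun hz => ⟨z, hz, A.fixes x z hz⟩
  let ψ : T →* Equiv.Perm (V ⧸ A.Z₀) :=
    { toFun := fun x => (QuotientGroup.congr A.Z₀ A.Z₀ (A.act x) (hmap x)).toEquiv
      map_one' := by
        ext q
        induction q using QuotientGroup.induction_on with
        | H w => simp
      map_mul' := fun x y => by
        ext q
        induction q using QuotientGroup.induction_on with
        | H w => simp }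
  set X := Subgroup.zpowers t
  letI : MulAction X (V ⧸ A.Z₀) := MulAction.compHom _ (ψ.comp X.subtype)
  have hX : IsPGroup s X := by
    rintro ⟨x, hx⟩
    obtain ⟨i, rfl⟩ := Subgroup.mem_zpowers_iff.mp hx
    exact ⟨j, Subtype.ext (by
      simp only [SubmonoidClass.coe_pow, OneMemClass.coe_one]
      rw [← zpow_natCast, ← zpow_mul, mul_comm, zpow_mul, zpow_natCast, ht, one_zpow])⟩
  have hdvd : s ∣ Nat.card (V ⧸ A.Z₀) := by
    have hn : Nontrivial (V ⧸ A.Z₀) := QuotientGroup.nontrivial_iff.mpr A.ne_top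
    obtain ⟨k, hk0, hk⟩ := (A.pgroup.to_quotient A.Z₀).nontrivial_iff_card.mp hn
    exact hk ▸ dvd_pow_self s (by omega)
  obtain ⟨b, hb, hb1⟩ := hX.exists_fixed_point_of_prime_dvd_card_of_fixed_point (V ⧸ A.Z₀) hdvd
    (a := (1 : V ⧸ A.Z₀)) (fun x => by
      show ψ (x : T) ((1 : V) : V ⧸ A.Z₀) = _
      simp [ψ])
  obtain ⟨v, rfl⟩ := QuotientGroup.mk_surjective b
  have hv : v ∉ A.Z₀ := fun h => hb1 (((QuotientGroup.eq_one_iff v).mpr h).symm)
  have hz : A.act t v * v⁻¹ ∈ A.Z₀ := by
    have h := hb ⟨t, Subgroup.mem_zpowers t⟩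
    change ψ t (v : V ⧸ A.Z₀) = v at h
    simp only [ψ, MonoidHom.coe_mk, OneHom.coe_mk, MulEquiv.toEquiv_eq_coe, MulEquiv.coe_toEquiv,
      QuotientGroup.congr_mk] at h
    rw [← QuotientGroup.eq_one_iff, QuotientGroup.mk_mul, QuotientGroup.mk_inv]
    rw [mul_inv_eq_one]
    exact h
  -- so `u` moves `v` by an element of `Z₀`
  have hw : A.act u v * v⁻¹ ∈ A.Z₀ := by
    refine A.free t ht1 _ ?_
    rw [map_mul, map_inv, ← A.act_mul, htu.eq, A.act_mul]
    have h1 : A.act t v = (A.act t v * v⁻¹) * v := by rw [inv_mul_cancel_right]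
    conv_lhs => rw [h1, map_mul, A.fixes u _ hz]
    simp [mul_comm, mul_left_comm, mul_assoc]
  set z := A.act u v * v⁻¹ with hzdef
  have hk : ∀ k : ℕ, A.act (u ^ k) v = z ^ k * v := by
    intro k
    induction k with
    | zero => simp
    | succ k ih =>
      rw [pow_succ', A.act_mul, ih, map_mul, map_pow, A.fixes u _ hw,
        show A.act u v = z * v by rw [hzdef, inv_mul_cancel_right], ← mul_assoc, ← pow_succ]
  obtain ⟨i, hi⟩ := A.pgroup z
  have hu1 : u ^ s ^ i = 1 := by
    by_contra h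
    exact hv (A.free _ h v (by rw [hk, hi, one_mul]))
  have hd := Nat.Coprime.pow_right i hu
  exact orderOf_eq_one_iff.mp ((Nat.coprime_iff_gcd_eq_one.mp hd) ▸
    (Nat.gcd_eq_left (orderOf_dvd_of_pow_eq_one hu1)).symm)

/-- An involution inverts `V` modulo `Z₀`. -/
theorem involution_inverts {i : T} (hi : i ^ 2 = 1) (hi1 : i ≠ 1) (v : V) :
    A.act i v * v ∈ A.Z₀ := by
  refine A.free i hi1 _ ?_
  rw [map_mul, ← A.act_mul, ← sq, hi, map_one, MulAut.one_apply, mul_comm]

/-- A commutator with an involution lowers into `s`-torsion. -/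
theorem commutator_pow_eq_one [Finite V] {i : T} (hi : i ^ 2 = 1) (hi1 : i ≠ 1) (x : T) :
    ∃ m : ℕ, (i * x * i * x⁻¹) ^ s ^ m = 1 := by
  obtain ⟨v, hv⟩ : ∃ v, v ∉ A.Z₀ := by
    by_contra h
    push Not at h
    exact A.ne_top (eq_top_iff.mpr fun w _ => h w)
  have hinv : ∀ w, ∃ z ∈ A.Z₀, A.act i w = z * w⁻¹ := fun w =>
    ⟨_, A.involution_inverts hi hi1 w, by rw [mul_inv_cancel_right]⟩
  have hz : A.act (i * x * i * x⁻¹) v * v⁻¹ ∈ A.Z₀ := by
    rw [A.act_mul, A.act_mul, A.act_mul]
    obtain ⟨z₁, h1, e1⟩ := hinv (A.act x⁻¹ v)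
    rw [e1, map_mul, map_inv, ← A.act_mul x x⁻¹, mul_inv_cancel, map_one, MulAut.one_apply,
      A.fixes x _ h1]
    obtain ⟨z₂, h2, e2⟩ := hinv (z₁ * v⁻¹)
    rw [e2]
    have : z₂ * (z₁ * v⁻¹)⁻¹ * v⁻¹ = z₂ * z₁⁻¹ := by
      rw [mul_inv_rev, inv_inv, mul_comm v, ← mul_assoc, mul_inv_cancel_right]
    rw [this]
    exact mul_mem h2 (inv_mem h1)
  set c := i * x * i * x⁻¹
  set z := A.act c v * v⁻¹ with hzdef
  have hk : ∀ k : ℕ, A.act (c ^ k) v = z ^ k * v := by
    intro k
    induction k with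
    | zero => simp
    | succ k ih =>
      rw [pow_succ', A.act_mul, ih, map_mul, map_pow, A.fixes c _ hz,
        show A.act c v = z * v by rw [hzdef, inv_mul_cancel_right], ← mul_assoc, ← pow_succ]
  obtain ⟨m, hm⟩ := A.pgroup z
  refine ⟨m, by_contra fun h => hv (A.free _ h v (by rw [hk, hm, one_mul]))⟩

end SemiregularAct

/-- **Two sided semiregular actions.** If `T` acts semiregularly modulo fixed subgroups on a
`q`-group and on an `r`-group, its order is not divisible by both `q` and `r`. -/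
theorem false_of_two_sided_action [Finite T] {W : Type v} [CommGroup W] [Finite V] [Finite W]
    {q r : ℕ} [hq : Fact q.Prime] [hr : Fact r.Prime] (hqr : q ≠ r)
    (A : SemiregularAct T V q) (B : SemiregularAct T W r)
    (hqT : q ∣ Nat.card T) (hrT : r ∣ Nat.card T) : False := by
  have hqr' : q.Coprime r := (Nat.coprime_primes hq.out hr.out).mpr hqr
  obtain ⟨x₀, hx₀⟩ := exists_prime_orderOf_dvd_card' q hqT
  obtain ⟨y₀, hy₀⟩ := exists_prime_orderOf_dvd_card' r hrT
  have hxy : ∀ x y : T, orderOf x = q → orderOf y = r → ¬ Commute x y := by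
    intro x y hx hy hc
    have hx1 : x ≠ 1 := fun h => hq.out.ne_one (by rw [← hx, h, orderOf_one])
    have := A.eq_one_of_commute (j := 1) (by rw [pow_one, ← hx, pow_orderOf_eq_one]) hx1
      (hy.symm ▸ hqr'.symm) hc
    exact hr.out.ne_one (by rw [← hy, this, orderOf_one])
  -- no involutions
  have hodd : ∀ i : T, i ^ 2 = 1 → i = 1 := by
    intro i hi
    by_contra hi1
    have hcomm : ∀ x, Commute i x := fun x => by
      obtain ⟨m, hm⟩ := A.commutator_pow_eq_one hi hi1 x
      obtain ⟨n, hn⟩ := B.commutator_pow_eq_one hi hi1 x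
      have h1 : orderOf (i * x * i * x⁻¹) = 1 :=
        Nat.dvd_one.mp ((hqr'.pow m n).gcd_eq_one ▸
          Nat.dvd_gcd (orderOf_dvd_of_pow_eq_one hm) (orderOf_dvd_of_pow_eq_one hn))
      have h2 := mul_inv_eq_one.mp (orderOf_eq_one_iff.mp h1)
      have hii : i * i = 1 := by rwa [← sq]
      exact show i * x = x * i by
        calc i * x = i * x * (i * i) := by rw [hii, mul_one]
          _ = (i * x * i) * i := by group
          _ = x * i := by rw [h2]
    have hio : orderOf i ∣ 2 := orderOf_dvd_of_pow_eq_one hi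
    by_cases hq2 : q = 2
    · have hy1 : y₀ ≠ 1 := fun h => hr.out.ne_one (by rw [← hy₀, h, orderOf_one])
      exact hi1 (B.eq_one_of_commute (j := 1) (by rw [pow_one, ← hy₀, pow_orderOf_eq_one]) hy1
        (Nat.Coprime.coprime_dvd_left hio (hq2 ▸ hqr')) (hcomm y₀).symm)
    · have hx1 : x₀ ≠ 1 := fun h => hq.out.ne_one (by rw [← hx₀, h, orderOf_one])
      exact hi1 (A.eq_one_of_commute (j := 1) (by rw [pow_one, ← hx₀, pow_orderOf_eq_one]) hx1
        (Nat.Coprime.coprime_dvd_left hio ((Nat.coprime_primes Nat.prime_two hq.out).mpr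
          (Ne.symm hq2))) (hcomm x₀).symm)
  -- all Sylow subgroups are cyclic
  haveI hZ : IsZGroup T := ⟨fun l hl P => by
    haveI := Fact.mk hl
    have hdep : ∀ a b : T, orderOf a = l → orderOf b = l → Commute a b →
        b ∈ Subgroup.zpowers a := by
      intro a b ha hb hab
      by_cases hlq : l = q
      · exact B.mem_zpowers_of_commute hl (hlq.symm ▸ hqr') ha hb hab
      · exact A.mem_zpowers_of_commute hl ((Nat.coprime_primes hl hq.out).mpr hlq) ha hb hab
    rcases subsingleton_or_nontrivial P with hP | hP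
    · exact isCyclic_of_subsingleton
    have hu : TwoGroups.UniqueOrderP l P := by
      obtain ⟨k, hk0, hk⟩ := P.2.nontrivial_iff_card.mp hP
      have hcn : Nontrivial (Subgroup.center P) := P.2.center_nontrivial
      obtain ⟨k', hk0', hk'⟩ := (P.2.to_subgroup (Subgroup.center P)).nontrivial_iff_card.mp hcn
      obtain ⟨z, hz⟩ := exists_prime_orderOf_dvd_card' (G := Subgroup.center P) l
        (hk' ▸ dvd_pow_self l (by omega))
      have hz' : orderOf ((z : P) : T) = l := by
        rw [Subgroup.orderOf_coe, Subgroup.orderOf_coe, hz]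
      intro a b ha hb
      have key : ∀ w : P, orderOf w = l → Subgroup.zpowers w = Subgroup.zpowers (z : P) := by
        intro w hw
        have hwz : Commute (((z : P)) : T) (w : T) :=
          (congrArg Subtype.val (Subgroup.mem_center_iff.mp z.2 w)).symm
        obtain ⟨m, hm⟩ := Subgroup.mem_zpowers_iff.mp
          (hdep _ _ hz' (by rw [Subgroup.orderOf_coe, hw]) hwz)
        refine Subgroup.eq_of_le_of_card_ge (Subgroup.zpowers_le.mpr
          (Subgroup.mem_zpowers_iff.mpr ⟨m, Subtype.ext (by simpa using hm)⟩)) ?_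
        rw [Nat.card_zpowers, Nat.card_zpowers, hw, Subgroup.orderOf_coe, hz]
      rw [key a ha, ← key b hb]
      exact Subgroup.mem_zpowers b
    rcases TwoGroups.isCyclic_or_quaternion P.2 hu with h | ⟨rfl, -⟩
    · exact h
    · exfalso
      obtain ⟨k, hk0, hk⟩ := P.2.nontrivial_iff_card.mp hP
      obtain ⟨i, hi⟩ := exists_prime_orderOf_dvd_card' (G := P) 2 (hk ▸ dvd_pow_self 2 (by omega))
      have := hodd (i : T) (orderOf_dvd_iff_pow_eq_one.mp (by rw [Subgroup.orderOf_coe, hi]))
      rw [← Subgroup.orderOf_coe, this, orderOf_one] at hi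
      omega⟩
  -- a nontrivial prime order element of the derived subgroup spans a normal subgroup
  have hfrob : ∀ {l n : ℕ} {X : Type v} [CommGroup X] {s : ℕ}, l.Prime → n.Prime →
      ∀ (_ : SemiregularAct T X s), n.Coprime s → ∀ x y : T, orderOf x = l → orderOf y = n →
      y ∈ commutator T → ¬ Commute x y → False := by
    intro l n X _ s hl hn C hns x y hx hy hyc hnc
    haveI := Fact.mk hl
    have hY : (Subgroup.zpowers y).Normal := by
      haveI := IsZGroup.isCyclic_commutator T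
      haveI : (Subgroup.zpowers y).Normal := ⟨fun w hw g => by
        obtain ⟨c, hc⟩ := IsCyclic.exists_generator (α := commutator T)
        obtain ⟨a, ha⟩ := Subgroup.mem_zpowers_iff.mp (hc ⟨y, hyc⟩)
        obtain ⟨b, hb⟩ := Subgroup.mem_zpowers_iff.mp (hc ⟨g * (c : T) * g⁻¹,
          (inferInstance : (commutator T).Normal).conj_mem _ c.2 g⟩)
        obtain ⟨d, rfl⟩ := Subgroup.mem_zpowers_iff.mp hw
        have ha' : (c : T) ^ a = y := congrArg Subtype.val ha
        have hb' : (c : T) ^ b = g * (c : T) * g⁻¹ := congrArg Subtype.val hb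
        refine Subgroup.mem_zpowers_iff.mpr ⟨b * d, ?_⟩
        rw [← ha', ← zpow_mul, ← zpow_mul, ← conj_zpow, ← hb', ← zpow_mul]
        ring_nf⟩
      infer_instance
    obtain ⟨k, hk⟩ := Subgroup.mem_zpowers_iff.mp
      (hY.conj_mem y (Subgroup.mem_zpowers y) x)
    let c : ℕ → T := fun i => x ^ i * y * (x ^ i)⁻¹
    have hcz : ∀ i, c i ∈ Subgroup.zpowers y := fun i =>
      hY.conj_mem y (Subgroup.mem_zpowers y) _
    have hyc' : ∀ i, Commute y (c i) := fun i => by
      obtain ⟨m, hm⟩ := Subgroup.mem_zpowers_iff.mp (hcz i)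
      rw [← hm]; exact (Commute.refl y).zpow_right m
    refine C.not_coprime_of_family (n := n) (l := l) hl.one_lt.le
      (fun i => y * (c i)⁻¹) (fun i => x ^ i) (fun j => y ^ j * x * (y ^ j)⁻¹) ?_ ?_ ?_ ?_ ?_ hns
    · intro j h
      rw [conj_eq_one_iff] at h
      exact hl.ne_one (by rw [← hx, h, orderOf_one])
    · intro j
      rw [conj_pow, ← hx, pow_orderOf_eq_one, mul_one, mul_inv_cancel]
    · intro j i _ _
      rw [conj_pow, ((hyc' i).inv_right).mul_pow, inv_pow, conj_pow]
      group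
    · intro i hi hil h
      have hfix : x ^ i * y * (x ^ i)⁻¹ = y := (mul_inv_eq_one.mp h).symm
      have hci : Commute (x ^ i) y := mul_inv_eq_iff_eq_mul.mp hfix
      obtain ⟨m, hm⟩ := exists_pow_eq_self_of_coprime (x := x) (n := i)
        (hx.symm ▸ ((hl.coprime_iff_not_dvd).mpr (Nat.not_dvd_of_pos_of_lt hi hil)).symm)
      exact hnc (hm ▸ hci.pow_left m)
    · intro i _ _
      rw [((hyc' i).inv_right).mul_pow, inv_pow, conj_pow, ← hy, pow_orderOf_eq_one, mul_one,
        mul_inv_cancel, inv_one, mul_one]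
  by_cases hqc : q ∣ Nat.card (commutator T)
  · obtain ⟨x, hx⟩ := exists_prime_orderOf_dvd_card' (G := commutator T) q hqc
    rw [← Subgroup.orderOf_coe] at hx
    exact hfrob hr.out hq.out B hqr' y₀ x hy₀ hx x.2 fun h => hxy _ _ hx hy₀ h.symm
  by_cases hrc : r ∣ Nat.card (commutator T)
  · obtain ⟨y, hy⟩ := exists_prime_orderOf_dvd_card' (G := commutator T) r hrc
    rw [← Subgroup.orderOf_coe] at hy
    exact hfrob hq.out hr.out A hqr'.symm x₀ y hx₀ hy y.2 (hxy _ _ hx₀ hy)
  -- both primes in a cyclic complement of the derived subgroup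
  obtain ⟨H, hH⟩ := Subgroup.exists_right_complement'_of_coprime (N := commutator T)
    (IsZGroup.coprime_commutator_index T)
  haveI : IsCyclic (T ⧸ commutator T) := IsZGroup.isCyclic_abelianization
  haveI : IsCyclic H := isCyclic_of_injective
    ((QuotientGroup.mk' (commutator T)).comp H.subtype) ((injective_iff_map_eq_one _).2 fun w hw => by
      have hwc : (w : T) ∈ commutator T := (QuotientGroup.eq_one_iff _).mp hw
      exact Subtype.ext (Subgroup.mem_bot.mp (hH.disjoint.le_bot ⟨hwc, w.2⟩)))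
  have hdvd : ∀ {l : ℕ}, l.Prime → l ∣ Nat.card T → ¬ l ∣ Nat.card (commutator T) →
      l ∣ Nat.card H := fun {l} hl hT hc =>
    (hl.dvd_mul.mp (by rw [hH.card_mul_card]; exact hT)).resolve_left hc
  obtain ⟨x, hx⟩ := exists_prime_orderOf_dvd_card' (G := H) q (hdvd hq.out hqT hqc)
  obtain ⟨y, hy⟩ := exists_prime_orderOf_dvd_card' (G := H) r (hdvd hr.out hrT hrc)
  obtain ⟨c, hc⟩ := IsCyclic.exists_generator (α := H)
  obtain ⟨a, rfl⟩ := Subgroup.mem_zpowers_iff.mp (hc x)
  obtain ⟨b, rfl⟩ := Subgroup.mem_zpowers_iff.mp (hc y)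
  exact hxy _ _ ((Subgroup.orderOf_coe (c ^ a)).trans hx) ((Subgroup.orderOf_coe (c ^ b)).trans hy)
    (((Commute.refl c).zpow_zpow a b).map H.subtype)

end CfsgLib.Subnormal
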