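/-
Groups whose non-central `p`-regular elements all have centralizers of the same order.
-/
import Mathlib
import Cfsg.Agent.Lib.Cores.PCore
import Cfsg.Agent.Lib.Frobenius.Kazarin
import Cfsg.Agent.Lib.Frobenius.CA.Group
import Cfsg.Agent.Lib.Subnormal.TwoSidedAction
import Cfsg.Agent.Lib.PGroups.ClassTwo

set_option autoImplicit false
set_option linter.style.haveILetI false

open scoped commutatorElement

namespace CfsgLib.Subnormal.TwoSizes

universe u

variable {G : Type u} [Group G]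

/-- The centraliser of one element. -/
abbrev Cz (g : G) : Subgroup G := Subgroup.centralizer ({g} : Set G)

theorem mem_Cz {g h : G} : h ∈ Cz g ↔ Commute h g := Subgroup.mem_centralizer_singleton_iff

theorem Cz_eq_top {g : G} : Cz g = ⊤ ↔ g ∈ Subgroup.center G := by
  rw [Subgroup.mem_center_iff, eq_top_iff]
  exact ⟨fun h x => mem_Cz.mp (h (Subgroup.mem_top x)), fun h x _ => mem_Cz.mpr (h x)⟩

theorem Cz_le_iff {g h : G} : Cz g ≤ Cz h ↔ ∀ y : G, Commute y g → Commute y h :=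
  ⟨fun H y hy => mem_Cz.mp (H (mem_Cz.mpr hy)), fun H y hy => mem_Cz.mpr (H y (mem_Cz.mp hy))⟩

/-- The order is prime to `p`. -/
def Reg (p : ℕ) (g : G) : Prop := (orderOf g).Coprime p

/-- All non-central `p`-regular classes have the size `m`. -/
structure OneSize (p m : ℕ) (G : Type u) [Group G] : Prop where
  prime : p.Prime
  size : ∀ g : G, Reg p g → g ∉ Subgroup.center G → (Cz g).index = m

/-- A non-central element of `s`-power order. -/
def NC (s : ℕ) (g : G) : Prop := g ∉ Subgroup.center G ∧ ∃ k : ℕ, g ^ s ^ k = 1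

theorem orderOf_dvd_of_NC {s : ℕ} {g : G} (h : ∃ k : ℕ, g ^ s ^ k = 1) :
    ∃ k, orderOf g ∣ s ^ k := h.imp fun _ hk => orderOf_dvd_of_pow_eq_one hk

theorem reg_of_pow {p s : ℕ} (hp : p.Prime) (hs : s.Prime) (hsp : s ≠ p) {g : G}
    (h : ∃ k : ℕ, g ^ s ^ k = 1) : Reg p g := by
  obtain ⟨k, hk⟩ := orderOf_dvd_of_NC h
  exact Nat.Coprime.coprime_dvd_left hk (((Nat.coprime_primes hs hp).mpr hsp).pow_left k)

/-- An element lies in a subgroup as soon as its primary powers do. -/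
theorem mem_of_primary [Finite G] (D : Subgroup G) {g : G}
    (h : ∀ s : ℕ, s.Prime → s ∣ orderOf g → ∀ y ∈ Subgroup.zpowers g, (∃ k, y ^ s ^ k = 1) → y ∈ D) :
    g ∈ D := by
  suffices main : ∀ n, ∀ g : G, orderOf g = n →
      (∀ s : ℕ, s.Prime → s ∣ orderOf g → ∀ y ∈ Subgroup.zpowers g, (∃ k, y ^ s ^ k = 1) → y ∈ D) →
      g ∈ D from main _ g rfl h
  intro n
  induction n using Nat.strong_induction_on with
  | _ n ih =>
  intro g hn h
  rcases eq_or_ne n 1 with rfl | hn1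
  · rw [orderOf_eq_one_iff.mp hn]; exact one_mem D
  obtain ⟨l, hl, hln⟩ := Nat.exists_prime_and_dvd hn1
  have hn0 : n ≠ 0 := hn ▸ (orderOf_pos g).ne'
  obtain ⟨a, m, hlm, hnm⟩ := Nat.exists_eq_pow_mul_and_not_dvd hn0 l hl.ne_one
  have ha : a ≠ 0 := fun h0 => hlm (by rwa [hnm, h0, pow_zero, one_mul] at hln)
  have hm0 : m ≠ 0 := fun h0 => hn0 (by rw [hnm, h0, mul_zero])
  have h1 : g ^ m ∈ D := h l hl (hn ▸ hln) _ (Subgroup.npow_mem_zpowers g m)
    ⟨a, by rw [← pow_mul, mul_comm, ← hnm, ← hn, pow_orderOf_eq_one]⟩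
  have ho : orderOf (g ^ l ^ a) = m := by
    rw [orderOf_pow' _ (pow_ne_zero _ hl.ne_zero), hn, hnm, Nat.gcd_eq_right (dvd_mul_right _ _),
      Nat.mul_div_cancel_left _ (pow_pos hl.pos a)]
  have h2 : g ^ l ^ a ∈ D := by
    refine ih m ?_ _ ho fun s hs hsd y hy hk => h s hs (hsd.trans ?_) y
      (Subgroup.zpowers_le.mpr (Subgroup.npow_mem_zpowers g _) hy) hk
    · rw [hnm]
      exact lt_mul_of_one_lt_left (Nat.pos_of_ne_zero hm0) (Nat.one_lt_pow ha hl.one_lt)
    · rw [ho, hn, hnm]; exact dvd_mul_left _ _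
  obtain ⟨u, v, huv⟩ := Nat.isCoprime_iff_coprime.mpr ((hl.coprime_iff_not_dvd.mpr hlm).pow_left a)
  rw [← zpow_one g, ← huv, zpow_add, mul_comm u, mul_comm v, zpow_mul, zpow_mul, zpow_natCast,
    zpow_natCast]
  exact mul_mem (zpow_mem h2 u) (zpow_mem h1 v)

/-- `g` is a power of `g * h` when these commute and have coprime orders. -/
theorem mem_zpowers_mul {g h : G} (hc : Commute g h) (hco : (orderOf g).Coprime (orderOf h)) :
    g ∈ Subgroup.zpowers (g * h) := by
  obtain ⟨u, v, huv⟩ := Nat.isCoprime_iff_coprime.mpr hco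
  refine Subgroup.mem_zpowers_iff.mpr ⟨v * orderOf h, ?_⟩
  rw [hc.mul_zpow]
  have h1 : g ^ (v * (orderOf h : ℤ)) = g := by
    rw [show v * (orderOf h : ℤ) = 1 - u * orderOf g by linarith, zpow_sub, zpow_one, mul_comm u,
      zpow_mul, zpow_natCast, pow_orderOf_eq_one, one_zpow, inv_one, mul_one]
  have h2 : h ^ (v * (orderOf h : ℤ)) = 1 := by
    rw [mul_comm, zpow_mul, zpow_natCast, pow_orderOf_eq_one, one_zpow]
  rw [h1, h2, mul_one]

variable [Finite G] {p m : ℕ}

namespace OneSize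

variable (H : OneSize p m G)
include H

theorem eq_of_le {g h : G} (hg : Reg p g) (hgc : g ∉ Subgroup.center G) (hh : Reg p h)
    (hhc : h ∉ Subgroup.center G) (hle : Cz g ≤ Cz h) : Cz g = Cz h := by
  refine Subgroup.eq_of_le_of_card_ge hle (le_of_eq ?_)
  refine Nat.eq_of_mul_eq_mul_right (Nat.pos_of_ne_zero
    (Subgroup.index_ne_zero_of_finite (H := Cz g))) ?_
  conv_lhs => rw [H.size g hg hgc, ← H.size h hh hhc, Subgroup.card_mul_index]
  rw [Subgroup.card_mul_index]

theorem le_of_coprime {g h : G} (hg : Reg p g) (hgc : g ∉ Subgroup.center G) (hh : Reg p h)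
    (hcomm : Commute h g) (hco : (orderOf g).Coprime (orderOf h)) : Cz g ≤ Cz h := by
  have hgh : Reg p (g * h) :=
    Nat.Coprime.coprime_dvd_left hcomm.symm.orderOf_mul_dvd_mul_orderOf (hg.mul_left hh)
  have hmemg := mem_zpowers_mul hcomm.symm hco
  have hmemh : h ∈ Subgroup.zpowers (g * h) := by
    rw [hcomm.symm.eq]; exact mem_zpowers_mul hcomm hco.symm
  have hle : ∀ z ∈ Subgroup.zpowers (g * h), Cz (g * h) ≤ Cz z := fun z hz => by
    obtain ⟨i, rfl⟩ := Subgroup.mem_zpowers_iff.mp hz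
    exact Cz_le_iff.mpr fun y hy => hy.zpow_right i
  have hghc : g * h ∉ Subgroup.center G := fun hc => hgc (Subgroup.zpowers_le.mpr hc hmemg)
  exact (H.eq_of_le hgh hghc hg hgc (hle g hmemg)).ge.trans (hle h hmemh)

theorem exists_primary {g : G} (hg : Reg p g) (hgc : g ∉ Subgroup.center G) :
    ∃ s x, s.Prime ∧ s ≠ p ∧ NC s x ∧ Cz x = Cz g := by
  by_contra hno
  push Not at hno
  refine hgc (mem_of_primary _ fun s hs hsd y hy hk => ?_)
  by_contra hyc
  have hsp : s ≠ p := fun h => hs.ne_one (Nat.eq_one_of_dvd_coprimes hg hsd h.dvd)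
  have hle : Cz g ≤ Cz y := by
    obtain ⟨i, rfl⟩ := Subgroup.mem_zpowers_iff.mp hy
    exact Cz_le_iff.mpr fun z hz => hz.zpow_right i
  exact hno s y hs hsp ⟨hyc, hk⟩ (H.eq_of_le hg hgc (reg_of_pow H.prime hs hsp hk) hyc hle).symm

/-- Every centraliser contains non-central elements of every prime that has some. -/
theorem exists_mem {g : G} (hg : Reg p g) (hgc : g ∉ Subgroup.center G) {s : ℕ} (hs : s.Prime)
    (hsp : s ≠ p) {x₀ : G} (hx₀ : NC s x₀) : ∃ x, NC s x ∧ Cz x = Cz g := by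
  obtain ⟨r, g₁, hr, hrp, hg₁, hC⟩ := H.exists_primary hg hgc
  by_cases hrs : r = s
  · exact ⟨g₁, hrs ▸ hg₁, hC⟩
  suffices ∃ x ∈ Cz g₁, NC s x by
    obtain ⟨x, hx, hxN⟩ := this
    refine ⟨x, hxN, ?_⟩
    obtain ⟨i, hi⟩ := orderOf_dvd_of_NC hg₁.2
    obtain ⟨j, hj⟩ := orderOf_dvd_of_NC hxN.2
    have hle := H.le_of_coprime (reg_of_pow H.prime hr hrp hg₁.2) hg₁.1
      (reg_of_pow H.prime hs hsp hxN.2) (mem_Cz.mp hx)
      (Nat.Coprime.coprime_dvd_left hi (Nat.Coprime.coprime_dvd_right hj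
        (((Nat.coprime_primes hr hs).mpr hrs).pow i j)))
    rw [← hC]
    exact (H.eq_of_le (reg_of_pow H.prime hr hrp hg₁.2) hg₁.1 (reg_of_pow H.prime hs hsp hxN.2)
      hxN.1 hle).symm
  by_contra hno
  push Not at hno
  haveI := Fact.mk hs
  obtain ⟨P⟩ : Nonempty (Sylow s (Cz g₁)) := inferInstance
  obtain ⟨P₀⟩ : Nonempty (Sylow s (Cz x₀)) := inferInstance
  set P' := (P : Subgroup (Cz g₁)).map (Cz g₁).subtype with hP'
  have hP'p : IsPGroup s P' := P.2.map _
  have hP'c : P' ≤ Subgroup.center G := by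
    intro y hy
    by_contra hyc
    obtain ⟨z, hz, rfl⟩ := Subgroup.mem_map.mp hy
    obtain ⟨k, hk⟩ := P.2 ⟨z, hz⟩
    exact hno _ z.2 ⟨hyc, k, by
      simpa using congrArg (fun w : (P : Subgroup (Cz g₁)) => ((w : Cz g₁) : G)) hk⟩
  haveI : P'.Normal := ⟨fun y hy a => by
    rw [Subgroup.mem_center_iff.mp (hP'c hy) a, mul_inv_cancel_right]; exact hy⟩
  have hX : IsPGroup s (Subgroup.zpowers x₀) := by
    rintro ⟨y, hy⟩
    obtain ⟨i, rfl⟩ := Subgroup.mem_zpowers_iff.mp hy
    obtain ⟨k, hk⟩ := hx₀.2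
    exact ⟨k, Subtype.ext (by
      simp only [SubmonoidClass.coe_pow, OneMemClass.coe_one]
      rw [← zpow_natCast, ← zpow_mul, mul_comm, zpow_mul, zpow_natCast, hk, one_zpow])⟩
  have hS := hP'p.to_sup_of_normal_left hX
  have hle : P' ⊔ Subgroup.zpowers x₀ ≤ Cz x₀ := sup_le
    (hP'c.trans fun y hy => mem_Cz.mpr (Subgroup.mem_center_iff.mp hy x₀).symm)
    (Subgroup.zpowers_le.mpr (mem_Cz.mpr (Commute.refl x₀)))
  obtain ⟨Q, hQ⟩ := (hS.of_equiv (Subgroup.subgroupOfEquivOfLe hle).symm).exists_le_sylow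
  have hcQ : Nat.card (P' ⊔ Subgroup.zpowers x₀ : Subgroup G) ≤ Nat.card P' := by
    rw [← Nat.card_congr (Subgroup.subgroupOfEquivOfLe hle).toEquiv,
      Subgroup.card_map_of_injective (Cz g₁).subtype_injective]
    refine (Subgroup.card_le_of_le hQ).trans (le_of_eq ?_)
    have hcc : Nat.card (Cz x₀) = Nat.card (Cz g₁) := by
      refine Nat.eq_of_mul_eq_mul_right (Nat.pos_of_ne_zero
        (Subgroup.index_ne_zero_of_finite (H := Cz x₀))) ?_
      rw [Subgroup.card_mul_index, H.size x₀ (reg_of_pow H.prime hs hsp hx₀.2) hx₀.1,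
        ← H.size g₁ (reg_of_pow H.prime hr hrp hg₁.2) hg₁.1, Subgroup.card_mul_index]
    rw [Sylow.card_eq_multiplicity, Sylow.card_eq_multiplicity, hcc]
  have := Subgroup.eq_of_le_of_card_ge le_sup_left hcQ
  exact hx₀.1 (hP'c (this.ge (Subgroup.mem_sup_right (Subgroup.mem_zpowers x₀))))

/-- At least two primes have non-central elements. -/
def Two (_ : OneSize p m G) : Prop :=
  ∀ s : ℕ, ∃ t, t ≠ s ∧ t.Prime ∧ t ≠ p ∧ ∃ x : G, NC t x

/-- With two primes, regular elements of a centraliser are central in it. -/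
theorem le_of_mem (h2 : H.Two) {g h : G} (hg : Reg p g) (hgc : g ∉ Subgroup.center G)
    (hh : Reg p h) (hcomm : h ∈ Cz g) : Cz g ≤ Cz h := by
  intro y hy
  refine mem_Cz.mpr (mem_Cz.mp ?_).symm
  refine mem_of_primary (Cz y) fun s hs hsd z hz hk => mem_Cz.mpr (Commute.symm (mem_Cz.mp ?_))
  by_cases hzc : z ∈ Subgroup.center G
  · exact mem_Cz.mpr (Subgroup.mem_center_iff.mp hzc y)
  have hsp : s ≠ p := fun h => hs.ne_one (Nat.eq_one_of_dvd_coprimes hh hsd h.dvd)
  obtain ⟨t, hts, ht, htp, x₀, hx₀⟩ := h2 s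
  obtain ⟨x, hx, hxC⟩ := H.exists_mem hg hgc ht htp hx₀
  have hzx : z ∈ Cz x := by
    rw [hxC]; exact Subgroup.zpowers_le.mpr hcomm hz
  obtain ⟨i, hi⟩ := orderOf_dvd_of_NC hx.2
  obtain ⟨j, hj⟩ := orderOf_dvd_of_NC hk
  exact H.le_of_coprime (reg_of_pow H.prime ht htp hx.2) hx.1 (reg_of_pow H.prime hs hsp hk)
    (mem_Cz.mp hzx) (Nat.Coprime.coprime_dvd_left hi (Nat.Coprime.coprime_dvd_right hj
      (((Nat.coprime_primes ht hs).mpr hts).pow i j))) (hxC.ge hy)

end OneSize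

/-- The `s`-elements of the centre of `C(g)`. -/
def part (s : ℕ) (g : G) : Subgroup G where
  carrier := {h | h ∈ Cz g ∧ Cz g ≤ Cz h ∧ ∃ k : ℕ, h ^ s ^ k = 1}
  one_mem' := ⟨one_mem _, fun _ _ => mem_Cz.mpr (Commute.one_right _), 0, one_pow _⟩
  mul_mem' := by
    rintro a b ⟨ha, ha', i, hi⟩ ⟨hb, hb', j, hj⟩
    refine ⟨mul_mem ha hb, fun y hy => mem_Cz.mpr ((mem_Cz.mp (ha' hy)).mul_right
      (mem_Cz.mp (hb' hy))), i + j, ?_⟩
    rw [(mem_Cz.mp (hb' ha) : Commute a b).mul_pow, pow_add, pow_mul, hi, one_pow, one_mul,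
      mul_comm, pow_mul, hj, one_pow]
  inv_mem' := by
    rintro a ⟨ha, ha', i, hi⟩
    exact ⟨inv_mem ha, fun y hy => mem_Cz.mpr (mem_Cz.mp (ha' hy)).inv_right, i,
      by rw [inv_pow, hi, inv_one]⟩

omit [Finite G] in
theorem part_le {s : ℕ} {g : G} : part s g ≤ Cz g := fun _ h => h.1

omit [Finite G] in
theorem isPGroup_part {s : ℕ} {g : G} : IsPGroup s (part s g) := fun h =>
  h.2.2.2.imp fun _ hk => Subtype.ext (by simpa using hk)

omit [Finite G] in
theorem part_commute {s : ℕ} {g a b : G} (ha : a ∈ part s g) (hb : b ∈ part s g) : Commute a b :=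
  mem_Cz.mp (hb.2.1 ha.1)

omit [Finite G] in
theorem part_congr {s : ℕ} {g g' : G} (h : Cz g = Cz g') : part s g = part s g' := by
  ext z
  show z ∈ Cz g ∧ Cz g ≤ Cz z ∧ _ ↔ z ∈ Cz g' ∧ Cz g' ≤ Cz z ∧ _
  rw [h]

omit [Finite G] in
theorem conj_mem_part {s : ℕ} {g n z : G} (hn : n ∈ Subgroup.normalizer (Cz g : Set G))
    (hz : z ∈ part s g) : n * z * n⁻¹ ∈ part s g := by
  obtain ⟨h1, h2, k, hk⟩ := hz
  refine ⟨(Subgroup.mem_normalizer_iff.mp hn z).mp h1, fun y hy => mem_Cz.mpr ?_, k,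
    by rw [conj_pow, hk, mul_one, mul_inv_cancel]⟩
  have : n⁻¹ * y * n ∈ Cz z := h2 ((Subgroup.mem_normalizer_iff.mp hn _).mpr (by
    simpa [mul_assoc] using hy))
  show y * (n * z * n⁻¹) = n * z * n⁻¹ * y
  calc y * (n * z * n⁻¹) = n * (n⁻¹ * y * n * z) * n⁻¹ := by group
    _ = n * (z * (n⁻¹ * y * n)) * n⁻¹ := by rw [(mem_Cz.mp this).eq]
    _ = n * z * n⁻¹ * y := by group

omit [Finite G] in
theorem mul_conj_eq_of_commutator_mem_center {g n : G} (h : ⁅n, g⁆ ∈ Subgroup.center G) :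
    Cz (n * g * n⁻¹) = Cz g := by
  have e : n * g * n⁻¹ = ⁅n, g⁆ * g := by simp [commutatorElement_def]
  rw [e]
  refine le_antisymm (Cz_le_iff.mpr fun y hy => ?_) (Cz_le_iff.mpr fun y hy => ?_)
  · have hyc : y * ⁅n, g⁆ = ⁅n, g⁆ * y := Subgroup.mem_center_iff.mp h y
    show y * g = g * y
    refine mul_left_cancel (a := ⁅n, g⁆) ?_
    calc ⁅n, g⁆ * (y * g) = y * (⁅n, g⁆ * g) := by rw [← mul_assoc, ← hyc, mul_assoc]
      _ = ⁅n, g⁆ * g * y := hy.eq
      _ = _ := mul_assoc _ _ _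
  · have hyc : Commute y ⁅n, g⁆ := Subgroup.mem_center_iff.mp h y
    exact hyc.mul_right hy

omit [Finite G] in
theorem mem_normalizer_of_conj {g n : G} (h : Cz (n * g * n⁻¹) = Cz g) :
    n ∈ Subgroup.normalizer (Cz g : Set G) := by
  refine Subgroup.mem_normalizer_iff.mpr fun y => ?_
  conv_rhs => rw [← h]
  rw [mem_Cz, mem_Cz]
  exact ⟨fun hy => by
    have := hy.map (MulAut.conj n).toMonoidHom
    simpa using this, fun hy => by
    have := hy.map (MulAut.conj n⁻¹).toMonoidHom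
    simpa [mul_assoc] using this⟩

omit [Finite G] in
theorem index_eq_mul (H : OneSize p m G) {s : ℕ} {g : G} (hg : Reg p g)
    (hgc : g ∉ Subgroup.center G) : (part s g).relIndex (Cz g) * m = (part s g).index := by
  rw [← H.size g hg hgc, Subgroup.relIndex_mul_index part_le]

/-- A prime not dividing the class size has its Sylow subgroup in `part`. -/
theorem not_dvd_index_part (H : OneSize p m G) (h2 : H.Two) {s : ℕ} (hs : s.Prime) (hsp : s ≠ p)
    (hsm : ¬ s ∣ m) {g : G} (hg : Reg p g) (hgc : g ∉ Subgroup.center G) :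
    ¬ s ∣ (part s g).index := by
  haveI := Fact.mk hs
  rw [← index_eq_mul H hg hgc, hs.dvd_mul]
  rintro (h | h)
  · obtain ⟨P⟩ : Nonempty (Sylow s (Cz g)) := inferInstance
    refine P.not_dvd_index (h.trans (Subgroup.index_dvd_of_le fun z hz => ?_))
    obtain ⟨k, hk⟩ := P.2 ⟨z, hz⟩
    have hk' : (z : G) ^ s ^ k = 1 := by
      simpa using congrArg (fun w : (P : Subgroup (Cz g)) => ((w : Cz g) : G)) hk
    exact ⟨z.2, H.le_of_mem h2 hg hgc (reg_of_pow H.prime hs hsp ⟨k, hk'⟩) z.2, k, hk'⟩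
  · exact hsm h

/-- An `s`-group normalising a Sylow subgroup lies in it. -/
theorem le_of_normalize {s : ℕ} [Fact s.Prime] {S X : Subgroup G} (hS : IsPGroup s S)
    (hidx : ¬ s ∣ S.index) (hX : IsPGroup s X) (hn : X ≤ Subgroup.normalizer (S : Set G)) :
    X ≤ S := by
  have hU : IsPGroup s (X ⊔ S : Subgroup G) := hX.to_sup_of_normal_right' hS hn
  obtain ⟨k, hk⟩ := IsPGroup.iff_card.mp hU
  obtain ⟨a, ha⟩ := IsPGroup.iff_card.mp hS
  have hdvd : S.relIndex (X ⊔ S) ∣ s ^ k := hk ▸ Subgroup.relIndex_dvd_card _ _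
  have hco : (S.relIndex (X ⊔ S)).Coprime s := by
    refine (Nat.Prime.coprime_iff_not_dvd Fact.out).mpr (fun h => hidx (h.trans ?_)) |>.symm
    exact Dvd.intro _ (Subgroup.relIndex_mul_index le_sup_right)
  have := Nat.Coprime.eq_one_of_dvd (hco.pow_right k) hdvd
  exact le_sup_left.trans (Subgroup.relIndex_eq_one.mp this)

/-- A prime dividing the class size has non-central elements. -/
theorem exists_NC_of_dvd (H : OneSize p m G) {s : ℕ} (hs : s.Prime) (hsm : s ∣ m) {g : G}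
    (hg : Reg p g) (hgc : g ∉ Subgroup.center G) : ∃ x : G, NC s x := by
  haveI := Fact.mk hs
  by_contra hno
  push Not at hno
  obtain ⟨P⟩ : Nonempty (Sylow s G) := inferInstance
  refine P.not_dvd_index (hsm.trans (H.size g hg hgc ▸ Subgroup.index_dvd_of_le fun z hz => ?_))
  obtain ⟨k, hk⟩ := P.2 ⟨z, hz⟩
  have hzc : z ∈ Subgroup.center G := by_contra fun h =>
    hno z ⟨h, k, by simpa using congrArg Subtype.val hk⟩
  exact mem_Cz.mpr (Subgroup.mem_center_iff.mp hzc g).symm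

/-- The class size has at most one prime divisor besides `p`. -/
theorem bad_unique (H : OneSize p m G) (h2 : H.Two) {q r : ℕ} (hq : q.Prime) (hr : r.Prime)
    (hqp : q ≠ p) (hrp : r ≠ p) (hqm : q ∣ m) (hrm : r ∣ m) {g : G} (hg : Reg p g)
    (hgc : g ∉ Subgroup.center G) : q = r := by
  by_contra hqr
  set N := Subgroup.normalizer (Cz g : Set G) with hN
  set C' := (Cz g).subgroupOf N with hC'
  haveI : C'.Normal := Subgroup.normal_in_normalizer
  have hconj : ∀ (s : ℕ), s.Prime → s ≠ p → ∀ n : N, ∀ v ∈ part s g,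
      (n : G) * v * (n : G)⁻¹ ∈ part s g := fun s _ _ n v hv => conj_mem_part n.2 hv
  have mkAct : ∀ s : ℕ, s.Prime → s ≠ p → s ∣ m →
      (∃ (V : Type u) (_ : CommGroup V) (_ : Finite V),
        Nonempty (Subnormal.SemiregularAct (N ⧸ C') V s)) ∧ s ∣ Nat.card (N ⧸ C') := by
    intro s hs hsp hsm
    haveI := Fact.mk hs
    letI : CommGroup (part s g) :=
      { (inferInstance : Group (part s g)) with
        mul_comm := fun a b => Subtype.ext (part_commute a.2 b.2).eq }
    obtain ⟨x, hx, hxC⟩ := H.exists_mem hg hgc hs hsp (exists_NC_of_dvd H hs hsm hg hgc).choose_spec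
    have hxpart : x ∈ part s g :=
      ⟨hxC ▸ mem_Cz.mpr (Commute.refl x), hxC.ge, hx.2⟩
    refine ⟨⟨part s g, inferInstance, inferInstance, ⟨?_⟩⟩, ?_⟩
    · let φ : N →* MulAut (part s g) :=
        { toFun := fun n =>
            { toFun := fun v => ⟨(n : G) * v * (n : G)⁻¹, hconj s hs hsp n v v.2⟩
              invFun := fun v => ⟨((n⁻¹ : N) : G) * v * ((n⁻¹ : N) : G)⁻¹,
                hconj s hs hsp n⁻¹ v v.2⟩
              left_inv := fun v => Subtype.ext (by simp [mul_assoc])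
              right_inv := fun v => Subtype.ext (by simp [mul_assoc])
              map_mul' := fun v w => Subtype.ext (by simp [mul_assoc]) }
          map_one' := MulEquiv.ext fun v => Subtype.ext (by simp)
          map_mul' := fun n n' => MulEquiv.ext fun v => Subtype.ext (by simp [mul_assoc]) }
      have hker : C' ≤ φ.ker := fun n hn => MulEquiv.ext fun v => Subtype.ext (by
        show (n : G) * v * (n : G)⁻¹ = v
        have hc : Commute (n : G) (v : G) := mem_Cz.mp (v.2.2.1 hn)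
        rw [hc.eq, mul_inv_cancel_right])
      exact
        { act := QuotientGroup.lift C' φ hker
          Z₀ := (Subgroup.center G).subgroupOf (part s g)
          pgroup := isPGroup_part
          ne_top := fun h => hx.1 (Subgroup.subgroupOf_eq_top.mp h hxpart)
          fixes := fun t z hz => by
            induction t using QuotientGroup.induction_on with
            | H n =>
              exact Subtype.ext (show (n : G) * z * (n : G)⁻¹ = z by
                have hc : (n : G) * (z : G) = (z : G) * (n : G) := Subgroup.mem_center_iff.mp hz n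
                rw [hc, mul_inv_cancel_right])
          free := fun t ht v hv => by
            induction t using QuotientGroup.induction_on with
            | H n =>
              by_contra hvc
              refine ht ((QuotientGroup.eq_one_iff n).mpr ?_)
              have hv' : (n : G) * v * (n : G)⁻¹ = v := congrArg Subtype.val hv
              have hC : Cz g = Cz (v : G) :=
                H.eq_of_le hg hgc (reg_of_pow H.prime hs hsp v.2.2.2) hvc v.2.2.1
              show (n : G) ∈ Cz g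
              rw [hC]
              exact mem_Cz.mpr (mul_inv_eq_iff_eq_mul.mp hv') }
    · obtain ⟨S, hS⟩ := (isPGroup_part (s := s) (g := g)).exists_le_sylow
      have hne : part s g ≠ (S : Subgroup G) := fun h => S.not_dvd_index (h ▸
        (hsm.trans ⟨_, (mul_comm _ _).trans (index_eq_mul H (s := s) hg hgc) |>.symm⟩))
      haveI := S.2.isNilpotent
      obtain ⟨n, hnn, hnP⟩ := SetLike.exists_of_lt (Group.normalizerCondition_of_isNilpotent
        ((part s g).subgroupOf (S : Subgroup G)) (lt_top_iff_ne_top.mpr fun h =>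
          hne (le_antisymm hS (Subgroup.subgroupOf_eq_top.mp h))))
      have hnx : (n : G) * x * (n : G)⁻¹ ∈ part s g :=
        (Subgroup.mem_normalizer_iff.mp hnn ⟨x, hS hxpart⟩).mp hxpart
      have hnN : (n : G) ∈ N := by
        have hnc : (n : G) * x * (n : G)⁻¹ ∉ Subgroup.center G := fun h => hx.1 (by
          have := (inferInstance : (Subgroup.center G).Normal).conj_mem _ h (n : G)⁻¹
          simpa [mul_assoc] using this)
        have hC : Cz g = Cz ((n : G) * x * (n : G)⁻¹) :=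
          H.eq_of_le hg hgc (reg_of_pow H.prime hs hsp hnx.2.2) hnc hnx.2.1
        rw [hN, ← hxC]
        exact mem_normalizer_of_conj (hC.symm.trans hxC.symm)
      obtain ⟨k, hk⟩ := S.2 n
      have hk' : (n : G) ^ s ^ k = 1 := by simpa using congrArg Subtype.val hk
      set t : N ⧸ C' := QuotientGroup.mk ⟨n, hnN⟩ with ht
      have ht1 : t ≠ 1 := fun h => by
        have hnC : (n : G) ∈ Cz g := (QuotientGroup.eq_one_iff (⟨(n : G), hnN⟩ : N)).mp h
        exact hnP ⟨hnC, H.le_of_mem h2 hg hgc (reg_of_pow H.prime hs hsp ⟨k, hk'⟩) hnC, k, hk'⟩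
      have htk : t ^ s ^ k = 1 := by
        rw [ht, ← QuotientGroup.mk_pow]
        exact (QuotientGroup.eq_one_iff _).mpr (by
          rw [Subgroup.mem_subgroupOf, SubmonoidClass.coe_pow, hk']; exact one_mem _)
      obtain ⟨i, -, hi⟩ := (Nat.dvd_prime_pow hs).mp (orderOf_dvd_of_pow_eq_one htk)
      rcases i with _ | i
      · exact absurd (orderOf_eq_one_iff.mp (by simpa using hi)) ht1
      · exact (hi ▸ dvd_pow_self s i.succ_ne_zero).trans (orderOf_dvd_natCard t)
  obtain ⟨⟨V, _, _, ⟨A⟩⟩, hqT⟩ := mkAct q hq hqp hqm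
  obtain ⟨⟨W, _, _, ⟨B⟩⟩, hrT⟩ := mkAct r hr hrp hrm
  haveI := Fact.mk hq
  haveI := Fact.mk hr
  exact Subnormal.false_of_two_sided_action hqr A B hqT hrT

/-- **Non-dividing.** With two primes, the class size is a power of `p`. -/
theorem not_dvd_size (H : OneSize p m G) (h2 : H.Two) {q : ℕ} (hq : q.Prime) (hqp : q ≠ p)
    {g : G} (hg : Reg p g) (hgc : g ∉ Subgroup.center G) : ¬ q ∣ m := by
  intro hqm
  haveI := Fact.mk hq
  haveI := Fact.mk H.prime
  have hgood : ∀ s : ℕ, s.Prime → s ≠ p → s ≠ q → ¬ s ∣ m := fun s hs hsp hsq hsm =>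
    hsq (bad_unique H h2 hs hq hsp hqp hsm hqm hg hgc)
  obtain ⟨x₀, hx₀⟩ := exists_NC_of_dvd H hq hqm hg hgc
  obtain ⟨r, hrq, hr, hrp, y₀, hy₀⟩ := h2 q
  haveI := Fact.mk hr
  set Z := Subgroup.center G with hZ
  set π := QuotientGroup.mk' Z with hπ
  -- an element central modulo `Z` in a Sylow `q`-subgroup
  obtain ⟨Q, hQ⟩ := (show IsPGroup q (Subgroup.zpowers x₀) from fun ⟨y, hy⟩ => by
    obtain ⟨i, rfl⟩ := Subgroup.mem_zpowers_iff.mp hy
    obtain ⟨k, hk⟩ := hx₀.2
    exact ⟨k, Subtype.ext (by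
      simp only [SubmonoidClass.coe_pow, OneMemClass.coe_one]
      rw [← zpow_natCast, ← zpow_mul, mul_comm, zpow_mul, zpow_natCast, hk, one_zpow])⟩).exists_le_sylow
  have hQ1 : Nontrivial ((Q : Subgroup G).map π) := (Subgroup.nontrivial_iff_ne_bot _).mpr fun h =>
    hx₀.1 ((QuotientGroup.eq_one_iff x₀).mp (Subgroup.mem_bot.mp
      (h ▸ Subgroup.mem_map_of_mem π (hQ (Subgroup.mem_zpowers x₀)))))
  haveI : Nontrivial (Subgroup.center ((Q : Subgroup G).map π)) := (Q.2.map π).center_nontrivial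
  obtain ⟨⟨⟨ab, hab⟩, habc⟩, hab1⟩ := exists_ne (1 : Subgroup.center ((Q : Subgroup G).map π))
  obtain ⟨a, haQ, rfl⟩ := Subgroup.mem_map.mp hab
  have haZ : a ∉ Z := fun h => hab1 (Subtype.ext (Subtype.ext ((QuotientGroup.eq_one_iff a).mpr h)))
  have haq : ∃ k : ℕ, a ^ q ^ k = 1 :=
    (Q.2 ⟨a, haQ⟩).imp fun k hk => by simpa using congrArg Subtype.val hk
  have hareg : Reg p a := reg_of_pow H.prime hq hqp haq
  obtain ⟨k, hk⟩ : ∃ k, (Subgroup.centralizer ({π a} : Set (G ⧸ Z))).index = p ^ k := by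
    set D := Subgroup.centralizer ({π a} : Set (G ⧸ Z))
    refine ⟨_, Nat.eq_prime_pow_of_unique_prime_dvd Subgroup.index_ne_zero_of_finite
      fun {l} hl hld => ?_⟩
    rw [← Subgroup.index_comap_of_surjective D (QuotientGroup.mk'_surjective Z)] at hld
    by_contra hlp
    by_cases hlq : l = q
    · subst hlq
      refine Q.not_dvd_index (hld.trans (Subgroup.index_dvd_of_le fun z hz => ?_))
      rw [Subgroup.mem_comap, Subgroup.mem_centralizer_singleton_iff]
      exact congrArg Subtype.val (Subgroup.mem_center_iff.mp habc ⟨_, Subgroup.mem_map_of_mem π hz⟩)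
    · refine hgood l hl hlp hlq (hld.trans (H.size a hareg haZ ▸ Subgroup.index_dvd_of_le fun z hz => ?_))
      rw [Subgroup.mem_comap, Subgroup.mem_centralizer_singleton_iff]
      exact (mem_Cz.mp hz).map π
  have hsol := Frobenius.isSolvable_normalClosure_of_index_centralizer_prime_pow (π a) H.prime hk
  set U := Cfsg.pCore p (G ⧸ Z) with hU
  set ψ := QuotientGroup.mk' U with hψ
  set φ := ψ.comp π with hφ
  have hφs : Function.Surjective φ :=
    (QuotientGroup.mk'_surjective U).comp (QuotientGroup.mk'_surjective Z)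
  -- elements of order prime to `p` in the kernel are central
  have hW : ∀ (s : ℕ), s.Prime → s ≠ p → ∀ w : G, φ w = 1 → (∃ k, w ^ s ^ k = 1) → w ∈ Z := by
    intro s hs hsp w hw hwk
    have hwU : π w ∈ U := (QuotientGroup.eq_one_iff _).mp hw
    obtain ⟨i, hi⟩ := Cores.isPGroup_pCore p (G ⧸ Z) ⟨_, hwU⟩
    have hi' : π w ^ p ^ i = 1 := by simpa using congrArg Subtype.val hi
    obtain ⟨j, hj⟩ := hwk
    refine (QuotientGroup.eq_one_iff w).mp ?_
    have hd := Nat.dvd_gcd (orderOf_dvd_of_pow_eq_one hi')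
      (orderOf_dvd_of_pow_eq_one (show π w ^ s ^ j = 1 by rw [← map_pow, hj, map_one]))
    rw [(((Nat.coprime_primes H.prime hs).mpr hsp.symm).pow i j).gcd_eq_one] at hd
    exact orderOf_eq_one_iff.mp (Nat.dvd_one.mp hd)
  set L := (Subgroup.normalClosure ({π a} : Set (G ⧸ Z))).map ψ with hL
  haveI : L.Normal := Subgroup.normalClosure_normal.map _ (QuotientGroup.mk'_surjective U)
  have hLne : L ≠ ⊥ := fun h => haZ (hW q hq hqp a (Subgroup.mem_bot.mp (h ▸
    Subgroup.mem_map_of_mem ψ (Subgroup.subset_normalClosure rfl))) haq)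
  haveI := hsol
  have hLs : Group.IsSolvable L := Group.isSolvable_of_surjective
    (f := ψ.subgroupMap _) (MonoidHom.subgroupMap_surjective ψ _)
  obtain ⟨A, hAn, hAne, hAc⟩ := Frobenius.CA.exists_abelian_normal L hLne hLs
  obtain ⟨s, hs, hsA⟩ := Nat.exists_prime_and_dvd (fun h => hAne (Subgroup.card_eq_one.mp h))
  haveI := Fact.mk hs
  let M₀ : Subgroup ((G ⧸ Z) ⧸ U) :=
    { carrier := {x | x ∈ A ∧ x ^ s = 1}
      one_mem' := ⟨one_mem _, one_pow _⟩
      mul_mem' := fun {u v} hu hv => ⟨mul_mem hu.1 hv.1, by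
        rw [Commute.mul_pow (hAc u hu.1 v hv.1), hu.2, hv.2, one_mul]⟩
      inv_mem' := fun {u} hu => ⟨inv_mem hu.1, by rw [inv_pow, hu.2, inv_one]⟩ }
  haveI hM₀n : M₀.Normal := ⟨fun u hu x => ⟨hAn.conj_mem u hu.1 x, by
    rw [conj_pow, hu.2, mul_one, mul_inv_cancel]⟩⟩
  have hM₀p : IsPGroup s M₀ := fun u => ⟨1, Subtype.ext (by simpa using u.2.2)⟩
  obtain ⟨u₀, hu₀⟩ := exists_prime_orderOf_dvd_card' (G := A) s hsA
  have hu₀M : (u₀ : (G ⧸ Z) ⧸ U) ∈ M₀ := ⟨u₀.2, by
    rw [← hu₀, ← SubmonoidClass.coe_pow, pow_orderOf_eq_one]; rfl⟩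
  have hu₀1 : (u₀ : (G ⧸ Z) ⧸ U) ≠ 1 := fun h =>
    hs.ne_one (by rw [← hu₀, ← Subgroup.orderOf_coe, h, orderOf_one])
  have hsp : s ≠ p := by
    rintro rfl
    have h1 : IsPGroup s (M₀.comap ψ) := hM₀p.comap_of_ker_isPGroup ψ (by
      rw [hψ, QuotientGroup.ker_mk']; exact Cores.isPGroup_pCore s _)
    haveI := hM₀n.comap ψ
    have h2 : M₀.comap ψ ≤ U := Cores.le_pCore h1
    obtain ⟨w, hw⟩ := QuotientGroup.mk'_surjective U u₀
    refine hu₀1 ?_
    rw [← hw]
    exact (QuotientGroup.eq_one_iff w).mpr (h2 (show ψ w ∈ M₀ by rw [hw]; exact hu₀M))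
  set M := M₀.comap φ with hM
  haveI : M.Normal := hM₀n.comap φ
  obtain ⟨S⟩ : Nonempty (Sylow s M) := inferInstance
  set D := (S : Subgroup M).map M.subtype with hD
  have hDp : IsPGroup s D := S.2.map _
  have hDs : ∀ d ∈ D, ∃ k : ℕ, d ^ s ^ k = 1 := fun d hd =>
    (hDp ⟨d, hd⟩).imp fun k hk => by simpa using congrArg Subtype.val hk
  have hDM : D ≤ M := Subgroup.map_subtype_le _
  set N := Subgroup.normalizer (D : Set G) with hN
  -- `φ D = M₀`
  have hDφ : D.map φ = M₀ := by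
    have hMφ : M.map φ = M₀ := Subgroup.map_comap_eq_self_of_surjective hφs M₀
    have hle : D.map φ ≤ M₀ := hMφ ▸ Subgroup.map_mono hDM
    refine le_antisymm hle (Subgroup.relIndex_eq_one.mp ?_)
    have h1 : (D.map φ).relIndex M₀ ∣ D.relIndex M := by
      conv_lhs => rw [← hMφ]
      rw [← Subgroup.relIndex_comap]
      exact Subgroup.relIndex_dvd_of_le_left _ (Subgroup.le_comap_map φ D)
    have h2 : D.relIndex M = (S : Subgroup M).index := by
      rw [hD, Subgroup.relIndex, Subgroup.subgroupOf,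
        Subgroup.comap_map_eq_self_of_injective M.subtype_injective]
    obtain ⟨i, hi⟩ := IsPGroup.iff_card.mp hM₀p
    refine Nat.Coprime.eq_one_of_dvd (Nat.Coprime.pow_right i ?_)
      (hi ▸ Subgroup.relIndex_dvd_card (D.map φ) M₀)
    exact Nat.Coprime.coprime_dvd_left (h1.trans h2.dvd)
      ((hs.coprime_iff_not_dvd).mpr S.not_dvd_index).symm
  have hgen : N ⊔ φ.ker = ⊤ := by
    refine top_le_iff.mp ((Sylow.normalizer_sup_eq_top S).ge.trans (sup_le le_sup_left ?_))
    intro x hx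
    have hx' : φ x ∈ D.map φ := hDφ.symm ▸ hx
    have : x ∈ (D.map φ).comap φ := hx'
    rw [Subgroup.comap_map_eq] at this
    exact (sup_le_sup_right Subgroup.le_normalizer φ.ker) this
  have hconj : ∀ x : G, ∃ w n : G, φ w = 1 ∧ n ∈ N ∧ x = w * n := by
    intro x
    have hx : x ∈ φ.ker ⊔ N := by rw [sup_comm, hgen]; trivial
    obtain ⟨w, hw, n, hn, rfl⟩ := Subgroup.mem_sup_of_normal_left.mp hx
    exact ⟨w, n, hw, hn, rfl⟩
  have hZN : Z ≤ N := fun z hz => Subgroup.mem_normalizer_iff.mpr fun y => by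
    rw [← Subgroup.mem_center_iff.mp hz y, mul_inv_cancel_right]
  have hNidx : ∀ l : ℕ, l.Prime → l ≠ p → ¬ l ∣ N.index := by
    intro l hl hlp hld
    have h1 : N.index = N.relIndex φ.ker := by
      have e1 : φ.ker.relIndex N = φ.ker.index := by
        rw [← Subgroup.relIndex_sup_right, hgen, Subgroup.relIndex_top_right]
      have e2 := Subgroup.relIndex_mul_relIndex ⊥ (N ⊓ φ.ker) N bot_le inf_le_left
      have e3 := Subgroup.relIndex_mul_relIndex ⊥ (N ⊓ φ.ker) φ.ker bot_le inf_le_right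
      rw [Subgroup.relIndex_bot_left, Subgroup.relIndex_bot_left, Subgroup.inf_relIndex_left, e1] at e2
      rw [Subgroup.relIndex_bot_left, Subgroup.relIndex_bot_left, Subgroup.inf_relIndex_right] at e3
      have e4 : Nat.card N * N.index = Nat.card φ.ker * φ.ker.index := by
        rw [Subgroup.card_mul_index, Subgroup.card_mul_index]
      rw [← e2, ← e3] at e4
      refine Nat.eq_of_mul_eq_mul_left (mul_pos (Nat.card_pos (α := ↥(N ⊓ φ.ker)))
        (Nat.pos_of_ne_zero (Subgroup.index_ne_zero_of_finite (H := φ.ker)))) ?_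
      linarith
    have hZker : Z ≤ φ.ker := fun z hz => by
      show ψ (π z) = 1
      rw [show π z = 1 from (QuotientGroup.eq_one_iff z).mpr hz, map_one]
    have h2 : N.relIndex φ.ker ∣ Z.relIndex φ.ker := Subgroup.relIndex_dvd_of_le_left _ hZN
    have h3 : Z.relIndex φ.ker = Nat.card U := by
      rw [show Z.relIndex φ.ker = π.ker.relIndex φ.ker from
          congrArg (fun T => T.relIndex φ.ker) (QuotientGroup.ker_mk' Z).symm,
        ← MonoidHom.comap_bot, Subgroup.relIndex_comap, Subgroup.relIndex_bot_left]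
      rw [show φ.ker = U.comap π by
        rw [hφ, ← MonoidHom.comap_ker, hψ, QuotientGroup.ker_mk'],
        Subgroup.map_comap_eq_self_of_surjective (f := π) (QuotientGroup.mk'_surjective Z) U]
    obtain ⟨i, hi⟩ := IsPGroup.iff_card.mp (Cores.isPGroup_pCore p (G ⧸ Z))
    exact hlp ((Nat.prime_dvd_prime_iff_eq hl H.prime).mp
      (hl.dvd_of_dvd_pow (hi ▸ (hld.trans (h1.dvd.trans (h2.trans h3.dvd))))))
  -- Sylow subgroups inside the normaliser
  have hsylN : ∀ l : ℕ, l.Prime → l ≠ p → ∃ X : Subgroup G, X ≤ N ∧ IsPGroup l X ∧ ¬ l ∣ X.index := by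
    intro l hl hlp
    haveI := Fact.mk hl
    obtain ⟨X⟩ : Nonempty (Sylow l N) := inferInstance
    refine ⟨(X : Subgroup N).map N.subtype, Subgroup.map_subtype_le _, X.2.map _, ?_⟩
    rw [← Subgroup.relIndex_mul_index (Subgroup.map_subtype_le _), hl.dvd_mul]
    rintro (h | h)
    · rw [Subgroup.relIndex, Subgroup.subgroupOf,
        Subgroup.comap_map_eq_self_of_injective N.subtype_injective] at h
      exact X.not_dvd_index h
    · exact hNidx l hl hlp h
  have hcomm : ∀ d ∈ D, ∀ n ∈ N, φ ⁅n, d⁆ = 1 → ⁅n, d⁆ ∈ Z := by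
    intro d hd n hn h1
    refine hW s hs hsp _ h1 (hDs _ ?_)
    rw [commutatorElement_def]
    exact mul_mem ((Subgroup.mem_normalizer_iff.mp hn d).mp hd) (inv_mem hd)
  obtain ⟨d₀, hd₀D, hd₀⟩ : ∃ d ∈ D, φ d = (u₀ : (G ⧸ Z) ⧸ U) := by
    obtain ⟨d, hd, hd'⟩ := Subgroup.mem_map.mp (hDφ.symm ▸ hu₀M)
    exact ⟨d, hd, hd'⟩
  have hd₀Z : d₀ ∉ Z := fun h => hu₀1 (by
    rw [← hd₀]; show ψ (π d₀) = 1
    rw [show π d₀ = 1 from (QuotientGroup.eq_one_iff d₀).mpr h, map_one])
  have hDD : ∀ d ∈ D, ∀ e ∈ D, ⁅e, d⁆ ∈ Z := by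
    intro d hd e he
    refine hcomm d hd e (Subgroup.le_normalizer he) ?_
    rw [map_commutatorElement, commutatorElement_eq_one_iff_mul_comm]
    exact hAc _ (hDφ.le (Subgroup.mem_map_of_mem φ he)).1 _ (hDφ.le (Subgroup.mem_map_of_mem φ hd)).1
  -- coprime orders and central commutator
  have hkill : ∀ {a' b : G} {i j : ℕ}, a' ^ i = 1 → b ^ j = 1 → i.Coprime j → ⁅a', b⁆ ∈ Z →
      Commute a' b := by
    intro a' b i j hi hj hij hc
    have h1 : ⁅a', b⁆ ^ i = 1 := by
      rw [← PGroups.commutatorElement_pow_left hc, hi, commutatorElement_one_left]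
    have h2 : ⁅a', b⁆ ^ j = 1 := by
      rw [← PGroups.commutatorElement_pow_right hc, hj, commutatorElement_one_right]
    have hd := Nat.dvd_gcd (orderOf_dvd_of_pow_eq_one h1) (orderOf_dvd_of_pow_eq_one h2)
    rw [hij.gcd_eq_one] at hd
    exact commutatorElement_eq_one_iff_mul_comm.mp (orderOf_eq_one_iff.mp (Nat.dvd_one.mp hd))
  obtain ⟨Xq, hXqN, hXqp, hXqi⟩ := hsylN q hq hqp
  have hXel : ∀ x ∈ Xq, ∃ k : ℕ, x ^ q ^ k = 1 := fun x hx =>
    (hXqp ⟨x, hx⟩).imp fun k hk => by simpa using congrArg Subtype.val hk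
  by_cases hsq : s = q
  · -- `D` is a `q`-group
    subst hsq
    obtain ⟨X, hXN, hXp, hXi⟩ := hsylN r hr hrp
    have hrm := hgood r hr hrp hrq
    have hRN : ∀ d ∈ D, d ∉ Z → part r d ≤ N ∧ D ≤ Cz d := by
      intro d hdD hdZ
      have hdreg := reg_of_pow H.prime hs hsp (hDs d hdD)
      set R := part r d with hR
      have hRi := not_dvd_index_part H h2 hr hrp hrm hdreg hdZ
      let RS : Sylow r G := (isPGroup_part (s := r) (g := d)).toSylow hRi
      let XS : Sylow r G := hXp.toSylow hXi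
      obtain ⟨x, hx⟩ := MulAction.exists_smul_eq G XS RS
      obtain ⟨w, n, hw, hn, rfl⟩ := hconj x
      have hmemR : ∀ z ∈ X, (w * n) * z * (w * n)⁻¹ ∈ R := fun z hz => by
        show (w * n) * z * (w * n)⁻¹ ∈ (RS : Subgroup G)
        rw [← hx]
        exact ⟨z, hz, rfl⟩
      -- the conjugate of `X` inside the normaliser centralises `d`
      have hXd : ∀ z ∈ X, n * z * n⁻¹ ∈ Cz d := by
        intro z hz
        have hzN : n * z * n⁻¹ ∈ N := mul_mem (mul_mem hn (hXN hz)) (inv_mem hn)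
        have hφz : φ (n * z * n⁻¹) = φ ((w * n) * z * (w * n)⁻¹) := by
          simp [map_mul, hw]
        have h1 : φ ⁅n * z * n⁻¹, d⁆ = 1 := by
          rw [map_commutatorElement, hφz, ← map_commutatorElement,
            commutatorElement_eq_one_iff_commute.mpr (mem_Cz.mp (part_le (hmemR z hz))), map_one]
        obtain ⟨i, hi⟩ := hXp ⟨z, hz⟩
        obtain ⟨j, hj⟩ := hDs d hdD
        refine mem_Cz.mpr (hkill (i := r ^ i) (j := s ^ j) ?_ hj
          (((Nat.coprime_primes hr hs).mpr hrq).pow i j) (hcomm d hdD _ hzN h1))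
        rw [conj_pow, show z ^ r ^ i = 1 by simpa using congrArg Subtype.val hi, mul_one,
          mul_inv_cancel]
      have hXR : X.map (MulAut.conj n).toMonoidHom ≤ R := by
        rintro _ ⟨z, hz, rfl⟩
        obtain ⟨i, hi⟩ := hXp ⟨z, hz⟩
        have hk : (n * z * n⁻¹) ^ r ^ i = 1 := by
          rw [conj_pow, show z ^ r ^ i = 1 by simpa using congrArg Subtype.val hi, mul_one,
            mul_inv_cancel]
        exact ⟨hXd z hz, H.le_of_mem h2 hdreg hdZ (reg_of_pow H.prime hr hrp ⟨i, hk⟩) (hXd z hz),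
          i, hk⟩
      have hXReq : X.map (MulAut.conj n).toMonoidHom = R := by
        refine Subgroup.eq_of_le_of_card_ge hXR (le_of_eq ?_)
        rw [Subgroup.card_map_of_injective (MulEquiv.injective _)]
        exact (RS.card_eq_multiplicity).trans XS.card_eq_multiplicity.symm
      have hRleN : R ≤ N := by
        rw [← hXReq]
        rintro _ ⟨z, hz, rfl⟩
        exact mul_mem (mul_mem hn (hXN hz)) (inv_mem hn)
      refine ⟨hRleN, fun e he => ?_⟩
      -- `e` and `part r d` normalise one another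
      obtain ⟨y, hy, hyC⟩ := H.exists_mem hdreg hdZ hr hrp hy₀
      have hyR : y ∈ R := ⟨hyC ▸ mem_Cz.mpr (Commute.refl y), hyC.ge, hy.2⟩
      have heN := mem_normalizer_of_conj
        (mul_conj_eq_of_commutator_mem_center (hDD d hdD e he))
      have hc1 : ⁅e, y⁆ ∈ R := by
        rw [commutatorElement_def]
        exact mul_mem (conj_mem_part heN hyR) (inv_mem hyR)
      have hc2 : ⁅e, y⁆ ∈ D := by
        rw [commutatorElement_def, mul_assoc, mul_assoc]
        refine mul_mem he ?_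
        rw [← mul_assoc]
        exact (Subgroup.mem_normalizer_iff.mp (hRleN hyR) e⁻¹).mp (inv_mem he)
      obtain ⟨i, hi⟩ := hc1.2.2
      obtain ⟨j, hj⟩ := hDs _ hc2
      have hd := Nat.dvd_gcd (orderOf_dvd_of_pow_eq_one hi) (orderOf_dvd_of_pow_eq_one hj)
      rw [(((Nat.coprime_primes hr hs).mpr hrq).pow i j).gcd_eq_one] at hd
      rw [← hyC]
      exact mem_Cz.mpr (commutatorElement_eq_one_iff_mul_comm.mp
        (orderOf_eq_one_iff.mp (Nat.dvd_one.mp hd)))
    obtain ⟨hR0N, hD0⟩ := hRN d₀ hd₀D hd₀Z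
    have hd₀reg := reg_of_pow H.prime hs hsp (hDs d₀ hd₀D)
    set R := part r d₀ with hR
    have hnormR : ∀ n ∈ N, n ∈ Subgroup.normalizer (Cz d₀ : Set G) := by
      intro n hn
      refine mem_normalizer_of_conj ?_
      have hd' : n * d₀ * n⁻¹ ∈ D := (Subgroup.mem_normalizer_iff.mp hn d₀).mp hd₀D
      have hnc : n * d₀ * n⁻¹ ∉ Z := fun h => hd₀Z (by
        have := (inferInstance : (Subgroup.center G).Normal).conj_mem _ h n⁻¹
        simpa [mul_assoc] using this)
      exact (H.eq_of_le hd₀reg hd₀Z (reg_of_pow H.prime hs hsp (hDs _ hd')) hnc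
        (H.le_of_mem h2 hd₀reg hd₀Z (reg_of_pow H.prime hs hsp (hDs _ hd')) (hD0 hd'))).symm
    have hRi := not_dvd_index_part H h2 hr hrp hrm hd₀reg hd₀Z
    obtain ⟨y, hy, hyC⟩ := H.exists_mem hd₀reg hd₀Z hr hrp hy₀
    have hyR : y ∈ R := ⟨hyC ▸ mem_Cz.mpr (Commute.refl y), hyC.ge, hy.2⟩
    refine hXqi (hqm.trans (H.size d₀ hd₀reg hd₀Z ▸ Subgroup.index_dvd_of_le fun x hx => ?_))
    rw [← hyC]
    by_cases hxc : x ∈ Z
    · exact mem_Cz.mpr (Subgroup.mem_center_iff.mp hxc y).symm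
    have hxreg := reg_of_pow H.prime hs hsp (hXel x hx)
    have hxi := not_dvd_index_part H h2 hr hrp hrm hxreg hxc
    let RS : Sylow r G := (isPGroup_part (s := r) (g := d₀)).toSylow hRi
    let XS : Sylow r G := (isPGroup_part (s := r) (g := x)).toSylow hxi
    obtain ⟨c, hc⟩ := MulAction.exists_smul_eq G RS XS
    obtain ⟨w, n, hw, hn, rfl⟩ := hconj c
    have hy' : n⁻¹ * y * n ∈ R := by
      simpa using conj_mem_part (hnormR n⁻¹ (inv_mem hn)) hyR
    have hmem : (w * n) * (n⁻¹ * y * n) * (w * n)⁻¹ ∈ part r x := by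
      show _ ∈ (XS : Subgroup G)
      rw [← hc]
      exact ⟨_, hy', rfl⟩
    have hφy : φ ⁅x, y⁆ = 1 := by
      have h0 : φ ((w * n) * (n⁻¹ * y * n) * (w * n)⁻¹) = φ y := by simp [map_mul, hw, mul_assoc]
      rw [map_commutatorElement, ← h0, ← map_commutatorElement,
        commutatorElement_eq_one_iff_commute.mpr (mem_Cz.mp (part_le hmem)).symm, map_one]
    have hxyR : ⁅x, y⁆ ∈ R := by
      rw [commutatorElement_def]
      exact mul_mem (conj_mem_part (hnormR x (hXqN hx)) hyR) (inv_mem hyR)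
    obtain ⟨i, hi⟩ := hXel x hx
    obtain ⟨j, hj⟩ := hy.2
    exact mem_Cz.mpr (hkill hi hj (((Nat.coprime_primes hs hr).mpr hrq.symm).pow i j)
      (hW r hr hrp _ hφy hxyR.2.2))
  · -- `D` is an abelian group of a good prime
    have hsm := hgood s hs hsp hsq
    have hd₀reg := reg_of_pow H.prime hs hsp (hDs d₀ hd₀D)
    refine hXqi (hqm.trans (H.size d₀ hd₀reg hd₀Z ▸ Subgroup.index_dvd_of_le fun x hx => ?_))
    by_cases hxc : x ∈ Z
    · exact mem_Cz.mpr (Subgroup.mem_center_iff.mp hxc d₀).symm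
    have hxreg := reg_of_pow H.prime hq hqp (hXel x hx)
    have hxi := not_dvd_index_part H h2 hs hsp hsm hxreg hxc
    let RS : Sylow s G := (isPGroup_part (s := s) (g := x)).toSylow hxi
    obtain ⟨R₁, hR₁⟩ := hDp.exists_le_sylow
    obtain ⟨c, hc⟩ := MulAction.exists_smul_eq G R₁ RS
    have hMle : M₀ ≤ (part s x).map φ := by
      intro u hu
      have hu' : (φ c)⁻¹ * u * φ c ∈ M₀ := by
        have h := hM₀n.conj_mem u hu (φ c⁻¹)
        rwa [← map_inv, inv_inv, map_inv] at h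
      obtain ⟨d, hd, hd'⟩ := Subgroup.mem_map.mp (hDφ.symm ▸ hu')
      refine ⟨c * d * c⁻¹, ?_, ?_⟩
      · show _ ∈ (RS : Subgroup G)
        rw [← hc]
        exact ⟨d, hR₁ hd, rfl⟩
      · rw [map_mul, map_mul, map_inv, hd']; group
    obtain ⟨z, hz, hz'⟩ := Subgroup.mem_map.mp (hMle (hd₀ ▸ hu₀M : φ d₀ ∈ M₀))
    have h1 : φ ⁅x, d₀⁆ = 1 := by
      rw [map_commutatorElement, ← hz', ← map_commutatorElement,
        commutatorElement_eq_one_iff_commute.mpr (mem_Cz.mp (part_le hz)).symm, map_one]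
    obtain ⟨i, hi⟩ := hXel x hx
    obtain ⟨j, hj⟩ := hDs d₀ hd₀D
    exact mem_Cz.mpr (hkill hi hj (((Nat.coprime_primes hq hs).mpr (Ne.symm hsq)).pow i j)
      (hcomm d₀ hd₀D x (hXqN hx) h1))

end CfsgLib.Subnormal.TwoSizes
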