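import Mathlib
import Cfsg.Agent.Lib.Subnormal.Basic
import Cfsg.Agent.Lib.Cores.PCore

/-!
The subnormalizer of a `p`-subgroup `H`: the elements `g` with `H` subnormal in `⟨H, g⟩`. It is
the union of the normalizers of the `p`-subgroups containing `H`, and Casolo's formula gives its
order as the sum of the orders of the normalizers of the Sylow subgroups containing `H`.

The proof of the formula is by induction with Moebius inversion on the lattice of `p`-subgroups
above `H`, whose Moebius function lives inside the normalizer of `H`.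
-/

set_option autoImplicit false
set_option linter.style.haveILetI false

namespace CfsgLib.Subnormal

universe u

variable {G : Type u} [Group G] {p : ℕ}

/-- The elements normalizing some `p`-subgroup containing `H`. -/
def pSubnormalizer (p : ℕ) (H : Subgroup G) : Set G :=
  {g | ∃ R : Subgroup G, IsPGroup p R ∧ H ≤ R ∧ g ∈ Subgroup.normalizer (R : Set G)}

theorem isSubnormal_iff_mem_pSubnormalizer [Finite G] [Fact p.Prime] {H : Subgroup G}
    (hH : IsPGroup p H) (g : G) :
    (H.subgroupOf (H ⊔ Subgroup.zpowers g)).IsSubnormal ↔ g ∈ pSubnormalizer p H := by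
  constructor
  · intro hg
    set L := H ⊔ Subgroup.zpowers g
    refine ⟨(Cfsg.pCore p L).map L.subtype, (CfsgLib.Cores.isPGroup_pCore p L).map _, ?_, ?_⟩
    · have h1 : H.subgroupOf L ≤ Cfsg.pCore p L :=
        CfsgLib.Cores.le_pCore_of_subnormal hg hH.comap_subtype
      have := Subgroup.map_mono (f := L.subtype) h1
      rwa [Subgroup.subgroupOf_map_subtype, inf_eq_left.mpr le_sup_left] at this
    · refine (?_ : L ≤ _) (Subgroup.mem_sup_right (Subgroup.mem_zpowers g))
      refine le_trans ?_ (Subgroup.le_normalizer_map L.subtype)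
      rw [Subgroup.normalizer_eq_top_iff.mpr inferInstance, ← MonoidHom.range_eq_map,
        Subgroup.range_subtype]
  · rintro ⟨R, hR, hHR, hgR⟩
    refine isSubnormal_subgroupOf_mono
      (sup_le (hHR.trans Subgroup.le_normalizer) (Subgroup.zpowers_le.mpr hgR)) ?_
    exact isSubnormal_subgroupOf_trans hHR Subgroup.le_normalizer
      (isSubnormal_subgroupOf_of_isNilpotent hR.isNilpotent)
      Subgroup.normal_in_normalizer.isSubnormal

theorem normalizerCondition_eq [Finite G] [Fact p.Prime] {H R : Subgroup G} (hR : IsPGroup p R)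
    (hHR : H ≤ R) (h : R ⊓ Subgroup.normalizer (H : Set G) ≤ H) : R = H := by
  by_contra hne
  have := hR.isNilpotent
  have hlt : H.subgroupOf R < ⊤ := lt_top_iff_ne_top.mpr fun h =>
    hne (le_antisymm (Subgroup.subgroupOf_eq_top.mp h) hHR)
  obtain ⟨x, hx, hxH⟩ := SetLike.exists_of_lt (Group.normalizerCondition_of_isNilpotent _ hlt)
  refine hxH (Subgroup.mem_subgroupOf.mpr (h ⟨x.2, ?_⟩))
  have := Subgroup.le_normalizer_map R.subtype ⟨x, hx, rfl⟩
  rwa [Subgroup.subgroupOf_map_subtype, inf_eq_left.mpr hHR] at this

/-- The smallest subgroup containing `K` that is normalized by `g`. -/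
def invClosure (g : G) (K : Subgroup G) : Subgroup G :=
  sInf {R | K ≤ R ∧ g ∈ Subgroup.normalizer (R : Set G)}

theorem le_invClosure (g : G) (K : Subgroup G) : K ≤ invClosure g K := le_sInf fun _ h => h.1

theorem invClosure_le {g : G} {K R : Subgroup G} (h : K ≤ R)
    (hg : g ∈ Subgroup.normalizer (R : Set G)) : invClosure g K ≤ R := sInf_le ⟨h, hg⟩

theorem mem_normalizer_invClosure (g : G) (K : Subgroup G) :
    g ∈ Subgroup.normalizer (invClosure g K : Set G) := by
  rw [Subgroup.mem_normalizer_iff]
  intro x
  simp only [invClosure, Subgroup.mem_sInf]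
  exact forall₂_congr fun R hR => Subgroup.mem_normalizer_iff.mp hR.2 x

/-- If the weights below every member of a down-closed family sum to zero, so does the total. -/
theorem sum_eq_zero_of_forall_le {α β : Type*} [Fintype α] [PartialOrder β] [Finite β] (f : α → β)
    (D : β → Prop) [DecidablePred D] [DecidableRel (α := β) (· ≤ ·)] (w : α → ℤ)
    (hD : ∀ a R, D R → f a ≤ R → D (f a))
    (h : ∀ R, D R → ∑ a ∈ Finset.univ.filter (fun a => f a ≤ R), w a = 0) :
    ∑ a ∈ Finset.univ.filter (fun a => D (f a)), w a = 0 := by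
  classical
  have := Fintype.ofFinite β
  have key : ∀ R, D R → ∑ a ∈ Finset.univ.filter (fun a => f a = R), w a = 0 := by
    intro R
    induction R using WellFoundedLT.induction with
    | _ R ih =>
      intro hR
      have h1 := h R hR
      rw [← Finset.sum_fiberwise_of_maps_to (g := f) (t := Finset.univ.filter (· ≤ R))
        (fun a ha => by simpa using ha)] at h1
      rw [Finset.sum_eq_single_of_mem R (by simp)] at h1
      · rw [Finset.filter_filter] at h1
        refine Eq.trans (Finset.sum_congr (Finset.filter_congr fun a _ => ?_) fun _ _ => rfl) h1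
        exact ⟨fun h => ⟨h.le, h⟩, fun h => h.2⟩
      · intro R' hR' hne
        have hlt : R' < R := lt_of_le_of_ne (by simpa using hR') hne
        rw [Finset.filter_filter]
        by_cases hex : ∃ a, f a = R'
        · obtain ⟨a, rfl⟩ := hex
          refine Eq.trans (Finset.sum_congr (Finset.filter_congr fun b _ => ?_) fun _ _ => rfl)
            (ih _ hlt (hD a R hR hlt.le))
          exact ⟨fun h => h.2, fun h => ⟨h ▸ hlt.le, h⟩⟩
        · refine Finset.sum_eq_zero fun a ha => absurd ⟨a, (Finset.mem_filter.mp ha).2.2⟩ hex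
  rw [← Finset.sum_fiberwise_of_maps_to (g := f) (t := Finset.univ.filter D)
    (fun a ha => by simpa using ha)]
  refine Finset.sum_eq_zero fun R hR => ?_
  have hR' : D R := by simpa using hR
  rw [Finset.filter_filter]
  refine Eq.trans (Finset.sum_congr (Finset.filter_congr fun a _ => ?_) fun _ _ => rfl) (key R hR')
  exact ⟨fun h => h.2, fun h => ⟨h ▸ hR', h⟩⟩

theorem card_sylow_mul_card_normalizer [Finite G] [Fact p.Prime] (P : Sylow p G) :
    Nat.card (Sylow p G) * Nat.card (Subgroup.normalizer ((P : Subgroup G) : Set G)) =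
      Nat.card G := by
  rw [Sylow.card_eq_index_normalizer P, mul_comm]
  exact Subgroup.card_mul_index _

theorem card_normalizer_eq [Finite G] [Fact p.Prime] (P Q : Sylow p G) :
    Nat.card (Subgroup.normalizer ((Q : Subgroup G) : Set G)) =
      Nat.card (Subgroup.normalizer ((P : Subgroup G) : Set G)) :=
  Nat.eq_of_mul_eq_mul_left (Nat.card_pos (α := Sylow p G))
    ((card_sylow_mul_card_normalizer Q).trans (card_sylow_mul_card_normalizer P).symm)

/-- **Casolo's formula**, in additive form. -/
theorem card_pSubnormalizer_aux [Fact p.Prime] (n : ℕ) :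
    ∀ (G : Type u) [Group G] [Finite G], Nat.card G = n → ∀ (P : Sylow p G) (H : Subgroup G),
      IsPGroup p H → (pSubnormalizer p H).ncard =
        Nat.card {Q : Sylow p G // H ≤ (Q : Subgroup G)} *
          Nat.card (Subgroup.normalizer ((P : Subgroup G) : Set G)) := by
  induction n using Nat.strong_induction_on with
  | _ n ihn =>
  intro G _ _ hn P H
  induction H using WellFoundedGT.induction with
  | _ H ihH =>
  intro hH
  classical
  set N := Subgroup.normalizer (H : Set G) with hNdef
  by_cases hN : N = ⊤
  · have hnorm : H.Normal := Subgroup.normalizer_eq_top_iff.mp hN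
    have h1 : pSubnormalizer p H = Set.univ := Set.eq_univ_of_forall fun g =>
      ⟨H, hH, le_rfl, by rw [← hNdef, hN]; exact Subgroup.mem_top g⟩
    have h2 : ∀ Q : Sylow p G, H ≤ (Q : Subgroup G) := fun Q =>
      (CfsgLib.Cores.le_pCore hH).trans (CfsgLib.Cores.pCore_le_sylow Q)
    rw [h1, Set.ncard_univ, Nat.card_congr (Equiv.subtypeUnivEquiv h2),
      card_sylow_mul_card_normalizer]
  have := Fintype.ofFinite G
  have := Fintype.ofFinite (Subgroup N)
  have := Fintype.ofFinite N
  have := Fintype.ofFinite (Sylow p N)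
  have := Fintype.ofFinite (Sylow p G)
  letI : LocallyFiniteOrder (Subgroup N) := Fintype.toLocallyFiniteOrder
  set H' := H.subgroupOf N with hH'def
  have hH'map : H'.map N.subtype = H := by
    rw [hH'def, Subgroup.subgroupOf_map_subtype, inf_eq_left.mpr Subgroup.le_normalizer]
  let w : Subgroup N → ℤ := fun K => IncidenceAlgebra.mu ℤ (α := Subgroup N) H' K
  have hw0 : ∀ K, ¬ H' ≤ K → w K = 0 := fun K hK =>
    IncidenceAlgebra.apply_eq_zero_of_not_le hK _
  -- summing the weights below a `p`-subgroup containing `H`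
  have hwR : ∀ R : Subgroup G, IsPGroup p R → H ≤ R →
      ∑ K ∈ Finset.univ.filter (fun K : Subgroup N => K.map N.subtype ≤ R), w K =
        if R = H then 1 else 0 := by
    intro R hR hHR
    have hiff : ∀ K : Subgroup N, K.map N.subtype ≤ R ↔ K ≤ R.subgroupOf N := fun K =>
      Subgroup.map_le_iff_le_comap
    have hle : H' ≤ R.subgroupOf N := (hiff _).mp (hH'map.le.trans hHR)
    rw [Finset.filter_congr (fun K _ => hiff K),
      ← Finset.sum_subset (s₁ := Finset.Icc H' (R.subgroupOf N))]
    · rw [IncidenceAlgebra.sum_Icc_mu_right H' (R.subgroupOf N)]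
      refine if_congr ⟨fun h => normalizerCondition_eq hR hHR ?_, fun h => by rw [h]⟩ rfl rfl
      have := congrArg (Subgroup.map N.subtype) h
      rw [hH'map, Subgroup.subgroupOf_map_subtype] at this
      exact this.ge
    · intro K hK
      simpa using (Finset.mem_Icc.mp hK).2
    · intro K hK hK'
      refine hw0 K fun h => hK' (Finset.mem_Icc.mpr ⟨h, by simpa using hK⟩)
  -- the weights annihilate an element outside `N`
  have hout : ∀ g : G, g ∉ N → ∑ K ∈ Finset.univ.filter
      (fun K : Subgroup N => g ∈ pSubnormalizer p (K.map N.subtype)), w K = 0 := by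
    intro g hg
    set f : Subgroup N → Subgroup G := fun K => invClosure g (K.map N.subtype ⊔ H) with hf
    have h0 := sum_eq_zero_of_forall_le f
      (fun R => IsPGroup p R ∧ H ≤ R ∧ g ∈ Subgroup.normalizer (R : Set G)) w
      (fun K R hR hle => ⟨hR.1.to_le hle, le_sup_right.trans (le_invClosure g _),
        mem_normalizer_invClosure g _⟩)
      (fun R hR => ?_)
    · rw [← h0]
      have hterm : ∀ K : Subgroup N, H' ≤ K → K.map N.subtype ⊔ H = K.map N.subtype := fun K hK =>
        sup_eq_left.mpr (hH'map ▸ Subgroup.map_mono hK)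
      rw [← Finset.sum_filter_of_ne (p := fun K => H' ≤ K) (fun K _ h => by
          by_contra hK; exact h (hw0 K hK)),
        ← Finset.sum_filter_of_ne (p := fun K => H' ≤ K) (f := w)
          (s := Finset.univ.filter (fun K => IsPGroup p (f K) ∧ H ≤ f K ∧
            g ∈ Subgroup.normalizer (f K : Set G))) (fun K _ h => by
          by_contra hK; exact h (hw0 K hK))]
      refine Finset.sum_congr ?_ fun _ _ => rfl
      ext K
      simp only [Finset.mem_filter, Finset.mem_univ, true_and, and_congr_left_iff]
      intro hK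
      have hfK : f K = invClosure g (K.map N.subtype) := by simp only [hf, hterm K hK]
      rw [hfK]
      refine ⟨fun ⟨R, hR, hle, hgR⟩ => ⟨hR.to_le (invClosure_le hle hgR), ?_,
          mem_normalizer_invClosure g _⟩, fun h => ⟨_, h.1, le_invClosure g _, h.2.2⟩⟩
      exact (hH'map ▸ Subgroup.map_mono hK).trans (le_invClosure g _)
    · have := hwR R hR.1 hR.2.1
      rw [if_neg (fun h : R = H => hg (by rw [hNdef, ← h]; exact hR.2.2))] at this
      rw [← this]
      refine Finset.sum_congr (Finset.filter_congr fun K _ => ?_) fun _ _ => rfl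
      exact ⟨fun h => le_sup_left.trans ((le_invClosure g _).trans h),
        fun h => invClosure_le (sup_le h hR.2.1) hR.2.2⟩
  -- an element of `N` sees only `N`
  have hin : ∀ (g : N) (K : Subgroup N),
      (g : G) ∈ pSubnormalizer p (K.map N.subtype) ↔ g ∈ pSubnormalizer p K := by
    intro g K
    constructor
    · rintro ⟨R, hR, hKR, hgR⟩
      refine ⟨R.subgroupOf N, hR.comap_subtype, Subgroup.map_le_iff_le_comap.mp hKR, ?_⟩
      rw [Subgroup.mem_normalizer_iff]
      intro x
      simp only [Subgroup.mem_subgroupOf, Subgroup.coe_mul, InvMemClass.coe_inv]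
      exact Subgroup.mem_normalizer_iff.mp hgR x
    · rintro ⟨R, hR, hKR, hgR⟩
      exact ⟨R.map N.subtype, hR.map _, Subgroup.map_mono hKR,
        Subgroup.le_normalizer_map N.subtype ⟨g, hgR, rfl⟩⟩
  -- both sides after Moebius inversion
  let F : Subgroup G → ℤ := fun K => if IsPGroup p K then
    (Nat.card {Q : Sylow p G // K ≤ (Q : Subgroup G)} : ℤ) *
      Nat.card (Subgroup.normalizer ((P : Subgroup G) : Set G)) else 0
  let S : Subgroup G → ℤ := fun K => ((pSubnormalizer p K).ncard : ℤ)
  have hnp : ∀ K : Subgroup G, ¬ IsPGroup p K → S K = F K := by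
    intro K hK
    have : pSubnormalizer p K = ∅ := Set.eq_empty_of_forall_notMem
      fun g ⟨R, hR, hle, _⟩ => hK (hR.to_le hle)
    simp only [S, F, if_neg hK, this, Set.ncard_empty, Nat.cast_zero]
  have hcardN : Nat.card N < n := by
    rw [← hn]
    exact Subgroup.one_lt_index_of_ne_top hN |> fun h => by
      rw [← Subgroup.card_mul_index N]
      exact lt_mul_of_one_lt_right Nat.card_pos h
  obtain ⟨P'⟩ : Nonempty (Sylow p N) := inferInstance
  have hSsum : ∑ K : Subgroup N, w K * S (K.map N.subtype) =
      if IsPGroup p H ∧ ∃ Q : Sylow p G, (Q : Subgroup G) = H then (Nat.card N : ℤ) else 0 := by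
    have hS : ∀ K : Subgroup G, S K = ∑ g : G, if g ∈ pSubnormalizer p K then 1 else 0 := fun K => by
      simp only [S, Finset.sum_boole, Set.ncard_eq_toFinset_card']
      congr 2; ext; simp
    simp only [hS, Finset.mul_sum, mul_ite, mul_one, mul_zero]
    rw [Finset.sum_comm]
    simp only [← Finset.sum_filter]
    rw [← Finset.sum_filter_add_sum_filter_not Finset.univ (fun g => g ∈ N),
      Finset.sum_eq_zero (s := Finset.univ.filter (fun g => ¬ g ∈ N))
        (fun g hg => hout g (by simpa using hg)), add_zero,
      Finset.sum_subtype (p := fun g => g ∈ N) (F := (inferInstance : Fintype N)) _ (fun g => by simp)]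
    simp only [hin, Finset.sum_filter]
    rw [Finset.sum_comm]
    have hK : ∀ K : Subgroup N, (∑ g : N, if g ∈ pSubnormalizer p K then w K else 0) =
        w K * ∑ Q : Sylow p N, if K ≤ (Q : Subgroup N) then
          (Nat.card (Subgroup.normalizer ((P' : Subgroup N) : Set N)) : ℤ) else 0 := by
      intro K
      rw [← Finset.sum_filter, Finset.sum_const, nsmul_eq_mul, mul_comm]
      congr 1
      rw [← Finset.sum_filter, Finset.sum_const, nsmul_eq_mul, ← Nat.cast_mul]
      refine congrArg Nat.cast ?_
      by_cases hKp : IsPGroup p K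
      · have := ihn _ hcardN N rfl P' K hKp
        rw [Set.ncard_eq_toFinset_card', Nat.card_eq_fintype_card, Fintype.card_subtype] at this
        rw [← this]; congr 1; ext; simp
      · have hempty : ∀ g, g ∉ pSubnormalizer p K := fun g ⟨R, hR, hle, _⟩ => hKp (hR.to_le hle)
        have hempty' : ∀ Q : Sylow p N, ¬ K ≤ (Q : Subgroup N) := fun Q h => hKp (Q.2.to_le h)
        simp [hempty, hempty']
    simp only [hK, Finset.mul_sum, mul_ite, mul_zero]
    rw [Finset.sum_comm]
    simp only [← Finset.sum_filter, ← Finset.sum_mul]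
    have hQ : ∀ Q : Sylow p N, ∑ K ∈ Finset.univ.filter (fun K : Subgroup N => K ≤ (Q : Subgroup N)),
        w K = if (Q : Subgroup N).map N.subtype = H then 1 else 0 := by
      intro Q
      have hHQ : H' ≤ (Q : Subgroup N) := by
        have : H'.Normal := Subgroup.normal_in_normalizer
        exact (CfsgLib.Cores.le_pCore (show IsPGroup p H' from hH.comap_subtype)).trans (CfsgLib.Cores.pCore_le_sylow Q)
      rw [← hwR _ (Q.2.map _) (hH'map ▸ Subgroup.map_mono hHQ)]
      refine Finset.sum_congr (Finset.filter_congr fun K _ => ?_) fun _ _ => rfl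
      exact (Subgroup.map_le_map_iff_of_injective N.subtype_injective).symm
    simp only [hQ, Finset.sum_mul, ite_mul, one_mul, zero_mul]
    by_cases hsyl : IsPGroup p H ∧ ∃ Q : Sylow p G, (Q : Subgroup G) = H
    · obtain ⟨-, Q, hQH⟩ := hsyl
      have hall : ∀ Q' : Sylow p N, (Q' : Subgroup N).map N.subtype = H := by
        intro Q'
        have hn' : H'.Normal := Subgroup.normal_in_normalizer
        have hle : H ≤ (Q' : Subgroup N).map N.subtype := hH'map ▸ Subgroup.map_mono
          ((CfsgLib.Cores.le_pCore (show IsPGroup p H' from hH.comap_subtype)).trans (CfsgLib.Cores.pCore_le_sylow Q'))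
        exact (Q.3 (Q'.2.map _) (hQH ▸ hle)).trans hQH
      simp only [hall, if_true]
      rw [if_pos ⟨hH, Q, hQH⟩, Finset.sum_const, nsmul_eq_mul, Finset.card_univ,
        ← Nat.card_eq_fintype_card, ← Nat.cast_mul, card_sylow_mul_card_normalizer]
    · rw [if_neg hsyl]
      refine Finset.sum_eq_zero fun Q' _ => if_neg fun h => hsyl ⟨hH, ?_⟩
      obtain ⟨Q, hQ⟩ := hH.exists_le_sylow
      refine ⟨Q, normalizerCondition_eq Q.2 hQ ?_⟩
      have hle : (Q' : Subgroup N) ≤ (Q : Subgroup G).subgroupOf N :=
        Subgroup.map_le_iff_le_comap.mp (h.le.trans hQ)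
      have := congrArg (Subgroup.map N.subtype) (Q'.3 Q.2.comap_subtype hle)
      rw [h, Subgroup.map_comap_eq, Subgroup.range_subtype, inf_comm] at this
      exact this.le
  have hFsum : ∑ K : Subgroup N, w K * F (K.map N.subtype) =
      if IsPGroup p H ∧ ∃ Q : Sylow p G, (Q : Subgroup G) = H then (Nat.card N : ℤ) else 0 := by
    have hF : ∀ K : Subgroup G, F K = ∑ Q : Sylow p G, if K ≤ (Q : Subgroup G) then
        (Nat.card (Subgroup.normalizer ((P : Subgroup G) : Set G)) : ℤ) else 0 := by
      intro K
      rw [← Finset.sum_filter, Finset.sum_const, nsmul_eq_mul]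
      simp only [F]
      split_ifs with hK
      · rw [Nat.card_eq_fintype_card (α := {Q : Sylow p G // K ≤ (Q : Subgroup G)}),
          Fintype.card_subtype]
      · have : ∀ Q : Sylow p G, ¬ K ≤ (Q : Subgroup G) := fun Q h => hK (Q.2.to_le h)
        simp [this]
    simp only [hF, Finset.mul_sum, mul_ite, mul_zero]
    rw [Finset.sum_comm]
    simp only [← Finset.sum_filter, ← Finset.sum_mul]
    have hQ : ∀ Q : Sylow p G, (∑ K ∈ Finset.univ.filter
        (fun K : Subgroup N => K.map N.subtype ≤ (Q : Subgroup G)), w K) =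
          if (Q : Subgroup G) = H then 1 else 0 := by
      intro Q
      by_cases hHQ : H ≤ (Q : Subgroup G)
      · exact hwR _ Q.2 hHQ
      · rw [if_neg fun h : (Q : Subgroup G) = H => hHQ h.ge]
        refine Finset.sum_eq_zero fun K hK => hw0 K fun h => hHQ ?_
        exact hH'map ▸ (Subgroup.map_mono h).trans (by simpa using hK)
    simp only [hQ, Finset.sum_mul, ite_mul, one_mul, zero_mul]
    by_cases hsyl : IsPGroup p H ∧ ∃ Q : Sylow p G, (Q : Subgroup G) = H
    · obtain ⟨-, Q, hQH⟩ := hsyl
      rw [if_pos ⟨hH, Q, hQH⟩, Finset.sum_eq_single Q]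
      · rw [if_pos hQH, hNdef, ← hQH, card_normalizer_eq P Q]
      · intro Q' _ hne
        exact if_neg fun h => hne (Sylow.ext (h.trans hQH.symm))
      · simp
    · rw [if_neg hsyl]
      exact Finset.sum_eq_zero fun Q _ => if_neg fun h => hsyl ⟨hH, Q, h⟩
  have hdiff : ∀ K : Subgroup N, K ≠ H' → w K * (S (K.map N.subtype) - F (K.map N.subtype)) = 0 := by
    intro K hne
    by_cases hle : H' ≤ K
    · rw [mul_eq_zero, sub_eq_zero]
      right
      by_cases hKp : IsPGroup p (K.map N.subtype : Subgroup G)
      · have hlt : H < K.map N.subtype := by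
          rw [← hH'map]
          exact (Subgroup.map_lt_map_iff_of_injective N.subtype_injective).mpr
            (lt_of_le_of_ne hle hne.symm)
        have := ihH _ hlt hKp
        simp only [S, F, if_pos hKp, this, Nat.cast_mul]
      · exact hnp _ hKp
    · rw [hw0 K hle, zero_mul]
  have hsum : ∑ K : Subgroup N, w K * (S (K.map N.subtype) - F (K.map N.subtype)) = 0 := by
    simp only [mul_sub, Finset.sum_sub_distrib, hSsum, hFsum, sub_self]
  rw [Finset.sum_eq_single H' (fun K _ h => hdiff K h) (by simp), hH'map] at hsum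
  have hw1 : w H' = 1 := IncidenceAlgebra.mu_self H'
  rw [hw1, one_mul, sub_eq_zero] at hsum
  simp only [S, F, if_pos hH] at hsum
  exact_mod_cast hsum

theorem card_pSubnormalizer [Finite G] [Fact p.Prime] (P : Sylow p G) {H : Subgroup G}
    (hH : IsPGroup p H) : (pSubnormalizer p H).ncard =
      Nat.card {Q : Sylow p G // H ≤ (Q : Subgroup G)} *
        Nat.card (Subgroup.normalizer ((P : Subgroup G) : Set G)) :=
  card_pSubnormalizer_aux (Nat.card G) G rfl P H hH

end CfsgLib.Subnormal
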